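import Groth.Agent.Lib.Helper3.ConsP.Local

set_option autoImplicit false
set_option linter.style.haveILetI false
universe u
open CategoryTheory CategoryTheory.Limits AlgebraicGeometry Topology TopologicalSpace
open scoped Set.Notation

namespace Groth.Agent.H3.ConsP

section Mor

variable {P : ∀ ⦃X Y T : Scheme.{u}⦄, (X ⟶ Y) → (Y ⟶ T) → Prop}
  {X Y S : Scheme.{u}} (f : X ⟶ Y) (g : Y ⟶ S)
  [LocallyOfFinitePresentation g] [QuasiCompact g] [QuasiSeparated g]
  [LocallyOfFinitePresentation (f ≫ g)] [QuasiCompact (f ≫ g)] [QuasiSeparated (f ≫ g)]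

theorem exists_noeth_model_mor_of_isAffine [IsAffine S] :
    ∃ (S₀ : Scheme.{u}) (π : S ⟶ S₀) (X₀ Y₀ : Scheme.{u})
      (f₀ : X₀ ⟶ Y₀) (g₀ : Y₀ ⟶ S₀) (qY : Y ⟶ Y₀) (qX : X ⟶ X₀),
      IsNoetherian S₀ ∧ LocallyOfFinitePresentation g₀ ∧ QuasiCompact g₀ ∧
        LocallyOfFinitePresentation (f₀ ≫ g₀) ∧ QuasiCompact (f₀ ≫ g₀) ∧
        IsPullback qY g g₀ π ∧ IsPullback qX f f₀ qY := by
  let A : Type u := Γ(S, ⊤)
  let e : S ≅ Spec (CommRingCat.of A) := S.isoSpec
  haveI : LocallyOfFinitePresentation (f ≫ g ≫ e.hom) := by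
    rw [← Category.assoc]; infer_instance
  haveI : QuasiCompact (f ≫ g ≫ e.hom) := by
    rw [← Category.assoc]; infer_instance
  haveI : QuasiSeparated (f ≫ g ≫ e.hom) := by
    rw [← Category.assoc]; infer_instance
  obtain ⟨S₀, π, X₀, Y₀, f₀, g₀, qY, qX, h1, -, h3, h4, h5, h6, h7, h8⟩ :=
    exists_noeth_model_mor A f (g ≫ e.hom)
  refine ⟨S₀, e.hom ≫ π, X₀, Y₀, f₀, g₀, qY, qX, h1, h3, h4, h5, h6, ?_, h8⟩
  have := (IsPullback.of_horiz_isIso (fst := 𝟙 Y) (snd := g) (f := g ≫ e.hom) (g := e.hom)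
    ⟨by simp⟩).paste_horiz h7
  simpa using this

theorem isConstructible_locusMor_of_isAffine [IsAffine S] (hP : ConsProp.IsConsMor P) :
    IsConstructible (ConsProp.locusMor P f g) := by
  obtain ⟨S₀, π, X₀, Y₀, f₀, g₀, qY, qX, h1, h3, h4, h5, h6, h7, h8⟩ :=
    exists_noeth_model_mor_of_isAffine f g
  rw [locusMor_preimage hP.1 h7 h8]
  exact π.isConstructible_preimage (isConstructible_locusMor f₀ g₀ hP)

theorem isIndConstructible_locusMor_of_isAffine [IsAffine S]
    (hP : ConsProp.IsIndConsMor P) :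
    ProCons.IsIndConstructible (ConsProp.locusMor P f g) := by
  obtain ⟨S₀, π, X₀, Y₀, f₀, g₀, qY, qX, h1, h3, h4, h5, h6, h7, h8⟩ :=
    exists_noeth_model_mor_of_isAffine f g
  rw [locusMor_preimage hP.1 h7 h8]
  exact Groth.Agent.H2.ProConsLib.isIndConstructible_preimage π
    (isIndConstructible_locusMor f₀ g₀ hP)

instance lfp_bcMor_comp {Z' : Scheme.{u}} (i : Z' ⟶ S) :
    LocallyOfFinitePresentation (bcMor f g i ≫ pullback.snd g i) := by
  rw [bcMor_snd]; infer_instance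

instance qs_bcMor_comp {Z' : Scheme.{u}} (i : Z' ⟶ S) :
    QuasiSeparated (bcMor f g i ≫ pullback.snd g i) := by
  rw [bcMor_snd]; infer_instance

theorem isLocallyConstructible_locusMor_of_fp (hP : ConsProp.IsConsMor P) :
    IsLocallyConstructible (ConsProp.locusMor P f g) := by
  refine IsLocallyConstructible.of_isOpenCover (U := fun V : S.affineOpens => V.1)
    (iSup_affineOpens_eq_top S) fun V => ?_
  haveI : IsAffine ↑V.1 := V.2
  have h := isConstructible_locusMor_of_isAffine (bcMor f g V.1.ι) (pullback.snd g V.1.ι) hP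
  rw [locusMor_bcMor f g hP.1 V.1.ι] at h
  exact h.isLocallyConstructible

theorem isIndConstructible_locusMor_of_fp (hP : ConsProp.IsIndConsMor P) :
    ProCons.IsIndConstructible (ConsProp.locusMor P f g) := by
  apply isIndConstructible_of_opens
  intro x
  obtain ⟨V, hV, hxV, -⟩ := Groth.Agent.H2.ProConsLib.exists_affine_nhd x isOpen_univ
    (Set.mem_univ _)
  refine ⟨V, hxV, ?_⟩
  haveI : IsAffine ↑V := hV
  have h := isIndConstructible_locusMor_of_isAffine (bcMor f g V.ι) (pullback.snd g V.ι) hP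
  rw [locusMor_bcMor f g hP.1 V.ι] at h
  exact h

end Mor

end Groth.Agent.H3.ConsP
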