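import Groth.Agent.Lib.Helper3.ConsP.ExHomInst
import Groth.Agent.Lib.Helper3.ConsP.LocalMor

set_option autoImplicit false
set_option linter.style.haveILetI false
universe u
open CategoryTheory CategoryTheory.Limits AlgebraicGeometry MorphismProperty Opposite Topology

namespace Groth.Agent.H3.ConsP

open Groth.Agent.H5.Lim

section Spread

variable {Q : MorphismProperty Scheme.{u}} [Q.IsStableUnderBaseChange]

/-- spreading out a property of the base change of a morphism `f : X ⟶ Y` over `S` to `T'`. -/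
theorem exists_spread_mor (H : CoreDescent Q)
    {R B : Type u} [CommRing R] [CommRing B] [Algebra R B]
    {S T' : Scheme.{u}} (j : Spec (CommRingCat.of R) ⟶ S) (e' : T' ≅ Spec (CommRingCat.of B))
    {X Y X' Y' : Scheme.{u}} (f : X ⟶ Y) (g : Y ⟶ S)
    [LocallyOfFinitePresentation g] [QuasiCompact g] [QuasiSeparated g]
    [LocallyOfFinitePresentation (f ≫ g)] [QuasiCompact (f ≫ g)] [QuasiSeparated (f ≫ g)]
    (f' : X' ⟶ Y') (gY' : Y' ⟶ T') (aX : X' ⟶ X) (aY : Y' ⟶ Y)
    (bigY : IsPullback aY gY' g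
      (e'.hom ≫ Spec.map (CommRingCat.ofHom (algebraMap R B)) ≫ j))
    (bigX : IsPullback aX f' f aY) (hQ : Q f') :
    ∃ (A : (FGR R B)ᵒᵖ) (Xi Yi : Scheme.{u}) (fi : Xi ⟶ Yi)
      (gi : Yi ⟶ (fgrDiagram R B).obj A) (qX : Xi ⟶ X) (qY : Yi ⟶ Y),
      IsPullback qY gi g (fgrToBase R B A ≫ j) ∧ IsPullback qX fi f qY ∧ Q fi := by
  let D := fgrDiagram R B
  let c₀ := fgrCone R B
  let c' : Cone D := c₀.extend e'.hom
  have hc' : IsLimit c' := IsLimit.ofIsoLimit (isLimitFgrCone R B) (c₀.extendIso e'.symm)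
  let pA : ∀ A : (FGR R B)ᵒᵖ, D.obj A ⟶ S := fun A => fgrToBase R B A ≫ j
  have hpA : ∀ A : (FGR R B)ᵒᵖ, c'.π.app A ≫ pA A =
      e'.hom ≫ Spec.map (CommRingCat.ofHom (algebraMap R B)) ≫ j := by
    intro A
    change (e'.hom ≫ c₀.π.app A) ≫ fgrToBase R B A ≫ j = _
    exact (Category.assoc _ _ _).trans (congrArg (e'.hom ≫ ·)
      ((Category.assoc _ _ _).symm.trans (congrArg (· ≫ j) (fgrCone_π_toBase R B A))))
  let A₀ : (FGR R B)ᵒᵖ := op ⟨⊥, Subalgebra.fg_bot⟩
  let gY'' : Y' ⟶ c'.pt := gY'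
  let g₀ := pullback.snd g (pA A₀)
  let f₀ := bcMor f g (pA A₀)
  have bigY' : IsPullback aY gY'' g (c'.π.app A₀ ≫ pA A₀) := by rw [hpA]; exact bigY
  -- the square of `Y'`
  let qY' : Y' ⟶ pullback g (pA A₀) :=
    pullback.lift aY (gY'' ≫ c'.π.app A₀) (by rw [bigY'.w, Category.assoc])
  have hY' : IsPullback qY' gY'' g₀ (c'.π.app A₀) := by
    refine IsPullback.of_right ?_ (pullback.lift_snd _ _ _) (IsPullback.of_hasPullback g (pA A₀))
    rw [pullback.lift_fst]
    exact bigY'
  have hqY'fst : qY' ≫ pullback.fst g (pA A₀) = aY := pullback.lift_fst _ _ _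
  -- the square of `X'`
  have w : aX ≫ f = (f' ≫ qY') ≫ pullback.fst g (pA A₀) := by
    rw [Category.assoc, hqY'fst, bigX.w]
  let qX' : X' ⟶ pullback (f ≫ g) (pA A₀) := (isPullback_bcMor f g (pA A₀)).lift aX (f' ≫ qY') w
  have hX' : IsPullback qX' f' f₀ qY' := by
    refine IsPullback.of_right ?_ ((isPullback_bcMor f g (pA A₀)).lift_snd _ _ w)
      (isPullback_bcMor f g (pA A₀))
    rw [(isPullback_bcMor f g (pA A₀)).lift_fst, hqY'fst]
    exact bigX
  haveI : LocallyOfFinitePresentation (f₀ ≫ g₀) := by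
    change LocallyOfFinitePresentation (bcMor f g (pA A₀) ≫ pullback.snd g (pA A₀))
    rw [bcMor_snd]; infer_instance
  haveI : QuasiCompact (f₀ ≫ g₀) := by
    change QuasiCompact (bcMor f g (pA A₀) ≫ pullback.snd g (pA A₀))
    rw [bcMor_snd]; infer_instance
  haveI : QuasiSeparated (f₀ ≫ g₀) := by
    change QuasiSeparated (bcMor f g (pA A₀) ≫ pullback.snd g (pA A₀))
    rw [bcMor_snd]; infer_instance
  haveI : CompactSpace (D.obj A₀) := inferInstanceAs (CompactSpace ((fgrDiagram R B).obj A₀))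
  haveI : QuasiSeparatedSpace (D.obj A₀) :=
    inferInstanceAs (QuasiSeparatedSpace ((fgrDiagram R B).obj A₀))
  obtain ⟨k, hk⟩ := H.out D c' hc' A₀ f₀ g₀ (descend_in D c' f₀ g₀ hY' hX' hQ)
  obtain ⟨A₂, φ', Xi, Yi, fi, gi, pY, pX, h1, h2, h3⟩ := descend_out D f₀ g₀ k hk
  have hp : D.map φ' ≫ pA A₀ = pA A₂ := by
    change D.map φ' ≫ fgrToBase R B A₀ ≫ j = fgrToBase R B A₂ ≫ j
    rw [← Category.assoc, fgrDiagram_map_toBase]
  refine ⟨A₂, Xi, Yi, fi, gi, pX ≫ pullback.fst (f ≫ g) (pA A₀), pY ≫ pullback.fst g (pA A₀),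
    ?_, ?_, h3⟩
  · have s2 := h1.paste_horiz (IsPullback.of_hasPullback g (pA A₀))
    rw [hp] at s2
    exact s2
  · exact h2.paste_horiz (isPullback_bcMor f g (pA A₀))

end Spread

section Main

variable {Q : MorphismProperty Scheme.{u}} [Q.IsStableUnderBaseChange]

theorem isFieldStableMor_of_descendsAlong
    [Q.DescendsAlong (@Surjective ⊓ @Flat ⊓ @QuasiCompact : MorphismProperty Scheme.{u})] :
    ConsProp.IsFieldStableMor (fun _ _ _ f _ => Q f) := by
  intro X X' Y Y' T T' f g f' g' eX eY h _ _ _ _ _ _ _ _ sqY sqX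
  constructor
  · intro hf
    exact MorphismProperty.of_isPullback sqX hf
  · intro hf'
    have hh := ConsUI.fpqc_of_subsingleton h
    have heY : (@Surjective ⊓ @Flat ⊓ @QuasiCompact : MorphismProperty Scheme.{u}) eY :=
      MorphismProperty.of_isPullback sqY.flip hh
    exact MorphismProperty.of_isPullback_of_descendsAlong
      (P := Q) (Q := (@Surjective ⊓ @Flat ⊓ @QuasiCompact)) sqX.flip heY hf'

theorem interior_locusMor_of_coreDescent (H : CoreDescent Q)
    (hfs : ConsProp.IsFieldStableMor (fun _ _ _ f _ => Q f))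
    {X Y S : Scheme.{u}} (f : X ⟶ Y) (g : Y ⟶ S) [IsIntegral S] [IsNoetherian S]
    [LocallyOfFiniteType g] [QuasiCompact g] [LocallyOfFiniteType (f ≫ g)] [QuasiCompact (f ≫ g)]
    (hgen : genericPoint S ∈ ConsProp.locusMor (fun _ _ _ f _ => Q f) f g) :
    (interior (ConsProp.locusMor (fun _ _ _ f _ => Q f) f g)).Nonempty := by
  set η := genericPoint S with hη
  have hQ : Q (MoreMor.fiberMap f g η) := hgen
  haveI : LocallyOfFinitePresentation g :=
    LocallyOfFinitePresentation.iff_locallyOfFiniteType.mpr inferInstance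
  haveI : LocallyOfFinitePresentation (f ≫ g) :=
    LocallyOfFinitePresentation.iff_locallyOfFiniteType.mpr inferInstance
  haveI : QuasiSeparated g := quasiSeparated_of_noeth g
  haveI : QuasiSeparated (f ≫ g) := quasiSeparated_of_noeth (f ≫ g)
  obtain ⟨U₀, hU₀, hηU₀, -⟩ := Groth.Agent.H2.ProConsLib.exists_affine_nhd η isOpen_univ
    (Set.mem_univ _)
  let R : Type u := Γ(S, U₀)
  let j : Spec (CommRingCat.of R) ⟶ S := hU₀.fromSpec
  haveI : IsOpenImmersion j := inferInstanceAs (IsOpenImmersion hU₀.fromSpec)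
  let k' : Type u := S.residueField η
  let T' : Scheme.{u} := Spec (CommRingCat.of k')
  let e' : T' ≅ Spec (CommRingCat.of k') := Iso.refl _
  let t : T' ⟶ S := S.fromSpecResidueField η
  have ht_apply : ∀ z : T', t z = η := by
    intro z
    have : t z ∈ Set.range (S.fromSpecResidueField η) := ⟨z, rfl⟩
    rw [Scheme.range_fromSpecResidueField] at this
    exact this
  have hrange : Set.range t ⊆ Set.range j := by
    rintro _ ⟨z, rfl⟩
    change j.opensRange.1 _
    rw [show j.opensRange = U₀ from hU₀.opensRange_fromSpec]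
    change t z ∈ U₀
    rw [ht_apply]
    exact hηU₀
  let a : Spec (CommRingCat.of k') ⟶ Spec (CommRingCat.of R) := IsOpenImmersion.lift j t hrange
  have ha : a ≫ j = t := IsOpenImmersion.lift_fac _ _ _
  let ψ : CommRingCat.of R ⟶ CommRingCat.of k' := Spec.preimage a
  have hψ : Spec.map ψ = a := Spec.map_preimage a
  letI : Algebra R k' := ψ.hom.toAlgebra
  have halg : CommRingCat.ofHom (algebraMap R k') = ψ := rfl
  have ht : e'.hom ≫ Spec.map (CommRingCat.ofHom (algebraMap R k')) ≫ j = t := by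
    rw [halg, hψ, ha]
    exact Category.id_comp _
  obtain ⟨A, Xi, Yi, fi, gi, qX, qY, sqY, sqX, hfi⟩ :=
    exists_spread_mor H j e' f g (MoreMor.fiberMap f g η) (g.fiberToSpecResidueField η)
      ((f ≫ g).fiberι η) (g.fiberι η)
      (by rw [ht]; exact IsPullback.of_hasPullback g (S.fromSpecResidueField η))
      (isPullback_fiberMap f g η) hQ
  let p : (fgrDiagram R k').obj A ⟶ S := fgrToBase R k' A ≫ j
  haveI : LocallyOfFiniteType p := inferInstanceAs (LocallyOfFiniteType (fgrToBase R k' A ≫ j))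
  haveI : QuasiCompact p := inferInstance
  haveI : LocallyOfFinitePresentation p :=
    LocallyOfFinitePresentation.iff_locallyOfFiniteType.mpr inferInstance
  have hηp : η ∈ Set.range p := by
    obtain ⟨t₀⟩ : Nonempty T' := inferInstance
    refine ⟨(e'.hom ≫ (fgrCone R k').π.app A) t₀, ?_⟩
    have e1 : (e'.hom ≫ (fgrCone R k').π.app A) ≫ p = t := by
      rw [← ht]
      exact (Category.assoc _ _ _).trans (congrArg (e'.hom ≫ ·)
        ((Category.assoc _ _ _).symm.trans (congrArg (· ≫ j) (fgrCone_π_toBase R k' A))))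
    rw [← Scheme.Hom.comp_apply, e1]
    exact ht_apply t₀
  have hsub : Set.range p ⊆ ConsProp.locusMor (fun _ _ _ f _ => Q f) f g := by
    rintro _ ⟨s', rfl⟩
    have h1 := locusMor_preimage hfs sqY sqX
    have h2 : s' ∈ ConsProp.locusMor (fun _ _ _ f _ => Q f) fi gi :=
      Q.of_isPullback (isPullback_fiberMap fi gi s') hfi
    rw [h1] at h2
    exact h2
  have hcons : IsConstructible (Set.range p) := by
    rw [← Set.image_univ]
    exact p.isConstructible_image IsConstructible.univ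
  have hind : ProCons.IsIndConstructible (Set.range p) :=
    (Groth.Agent.H2.ProConsLib.isLocallyConstructible_iff.mp hcons.isLocallyConstructible).1
  obtain ⟨x, hx⟩ := interior_nonempty_of_isIndConstructible hind hηp
  exact ⟨x, interior_mono hsub hx⟩

theorem isIndConsMor_of_coreDescent (H : CoreDescent Q)
    (hfs : ConsProp.IsFieldStableMor (fun _ _ _ f _ => Q f)) :
    ConsProp.IsIndConsMor (fun _ _ _ f _ => Q f) :=
  ⟨hfs, fun _ _ _ f g _ _ _ _ _ _ hgen => interior_locusMor_of_coreDescent H hfs f g hgen⟩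

end Main

end Groth.Agent.H3.ConsP
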