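import Groth.Agent.Lib.Helper3.ConsP.FibAll
import Groth.Agent.Lib.Helper3.ConsFin

set_option autoImplicit false
set_option linter.style.haveILetI false
universe u
open CategoryTheory CategoryTheory.Limits AlgebraicGeometry Topology TopologicalSpace

namespace Groth.Agent.H3.ConsP

section Congr

variable {P Q : ∀ ⦃X Y T : Scheme.{u}⦄, (X ⟶ Y) → (Y ⟶ T) → Prop}

theorem isFieldStableMor_congr (hP : ConsProp.IsFieldStableMor P)
    (h : ∀ ⦃X Y T : Scheme.{u}⦄ (f : X ⟶ Y) (g : Y ⟶ T) [IsNoetherian T]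
      [LocallyOfFiniteType g] [QuasiCompact g] [LocallyOfFiniteType (f ≫ g)]
      [QuasiCompact (f ≫ g)], P f g ↔ Q f g) :
    ConsProp.IsFieldStableMor Q := by
  intro X X' Y Y' T T' f g f' g' eX eY k _ _ _ _ _ _ _ _ sqY sqX
  haveI := isNoetherian_of_subsingleton T
  haveI := isNoetherian_of_subsingleton T'
  haveI : LocallyOfFiniteType g' := MorphismProperty.of_isPullback sqY ‹LocallyOfFiniteType g›
  haveI : QuasiCompact g' := MorphismProperty.of_isPullback sqY ‹QuasiCompact g›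
  haveI : LocallyOfFiniteType (f' ≫ g') :=
    MorphismProperty.of_isPullback (sqX.paste_vert sqY) ‹LocallyOfFiniteType (f ≫ g)›
  haveI : QuasiCompact (f' ≫ g') :=
    MorphismProperty.of_isPullback (sqX.paste_vert sqY) ‹QuasiCompact (f ≫ g)›
  rw [← h f g, ← h f' g']
  exact hP f g f' g' eX eY k sqY sqX

theorem locusMor_congr
    (h : ∀ ⦃X Y T : Scheme.{u}⦄ (f : X ⟶ Y) (g : Y ⟶ T) [IsNoetherian T]
      [LocallyOfFiniteType g] [QuasiCompact g] [LocallyOfFiniteType (f ≫ g)]
      [QuasiCompact (f ≫ g)], P f g ↔ Q f g)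
    {X Y S : Scheme.{u}} (f : X ⟶ Y) (g : Y ⟶ S) [LocallyOfFiniteType g] [QuasiCompact g]
    [LocallyOfFiniteType (f ≫ g)] [QuasiCompact (f ≫ g)] :
    ConsProp.locusMor P f g = ConsProp.locusMor Q f g := by
  ext s
  haveI : LocallyOfFiniteType (MoreMor.fiberMap f g s ≫ g.fiberToSpecResidueField s) := by
    rw [fiberMap_toSpec]; infer_instance
  haveI : QuasiCompact (MoreMor.fiberMap f g s ≫ g.fiberToSpecResidueField s) := by
    rw [fiberMap_toSpec]; infer_instance
  exact h (MoreMor.fiberMap f g s) (g.fiberToSpecResidueField s)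

theorem isConsMor_congr (hP : ConsProp.IsConsMor P)
    (h : ∀ ⦃X Y T : Scheme.{u}⦄ (f : X ⟶ Y) (g : Y ⟶ T) [IsNoetherian T]
      [LocallyOfFiniteType g] [QuasiCompact g] [LocallyOfFiniteType (f ≫ g)]
      [QuasiCompact (f ≫ g)], P f g ↔ Q f g) :
    ConsProp.IsConsMor Q := by
  refine ⟨isFieldStableMor_congr hP.1 h, ?_⟩
  intro X Y S f g _ _ _ _ _ _
  rw [← locusMor_congr h f g]
  exact hP.2 f g

theorem isIndConsMor_congr (hP : ConsProp.IsIndConsMor P)
    (h : ∀ ⦃X Y T : Scheme.{u}⦄ (f : X ⟶ Y) (g : Y ⟶ T) [IsNoetherian T]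
      [LocallyOfFiniteType g] [QuasiCompact g] [LocallyOfFiniteType (f ≫ g)]
      [QuasiCompact (f ≫ g)], P f g ↔ Q f g) :
    ConsProp.IsIndConsMor Q := by
  refine ⟨isFieldStableMor_congr hP.1 h, ?_⟩
  intro X Y S f g _ _ _ _ _ _
  rw [← locusMor_congr h f g]
  exact hP.2 f g

end Congr

theorem isConsMor_quasiFinite :
    ConsProp.IsConsMor.{u}
      (fun _ _ _ f _ => AlgebraicGeometry.LocallyOfFiniteType f ∧ AlgebraicGeometry.QuasiCompact f ∧
        AlgebraicGeometry.LocallyQuasiFinite f) := by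
  refine isConsMor_congr (isConsMor_allFib ConsFin.isCons_isFinite) ?_
  intro X Y T f g _ _ _ _ _
  haveI : LocallyOfFiniteType f := locallyOfFiniteType_of_comp f g
  haveI : QuasiCompact f := quasiCompact_of_comp_noeth f g
  constructor
  · intro H
    exact ⟨inferInstance, inferInstance, locallyQuasiFinite_iff_isFinite_fiber.mpr H⟩
  · rintro ⟨-, -, H⟩
    exact locallyQuasiFinite_iff_isFinite_fiber.mp H

end Groth.Agent.H3.ConsP
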