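import Groth.Agent.Lib.Helper3.ConsP.Locus
import Groth.Agent.Lib.Helper3.SepCrit
import Groth.Agent.Lib.Helper8.ConstructibleNoeth
import Groth.Agent.Lib.Helper2.ProConsLib

set_option autoImplicit false
set_option linter.style.haveILetI false
universe u
open CategoryTheory CategoryTheory.Limits AlgebraicGeometry Topology TopologicalSpace

namespace Groth.Agent.H3.ConsP

theorem preirreducibleSpace_of_isInducing {A B : Type*} [TopologicalSpace A] [TopologicalSpace B]
    {g : A → B} (hg : IsInducing g) (h : IsPreirreducible (Set.range g)) :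
    PreirreducibleSpace A := by
  refine ⟨fun U V hU hV hUne hVne => ?_⟩
  obtain ⟨U', hU', rfl⟩ := hg.isOpen_iff.mp hU
  obtain ⟨V', hV', rfl⟩ := hg.isOpen_iff.mp hV
  obtain ⟨a, -, ha⟩ := hUne
  obtain ⟨b, -, hb⟩ := hVne
  obtain ⟨_, ⟨c, rfl⟩, hc⟩ := h U' V' hU' hV' ⟨g a, ⟨a, rfl⟩, ha⟩ ⟨g b, ⟨b, rfl⟩, hb⟩
  exact ⟨c, Set.mem_univ _, hc⟩

/-- the reduced induced structure on an irreducible closed subset of a Noetherian scheme. -/
theorem exists_integral_closed_subscheme {S : Scheme.{u}} [IsNoetherian S] (Z : Set S)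
    (hZ : IsClosed Z) (hZi : IsIrreducible Z) :
    ∃ (Z' : Scheme.{u}) (i : Z' ⟶ S), IsClosedImmersion i ∧ IsIntegral Z' ∧ IsNoetherian Z' ∧
      Set.range i = Z := by
  let I := Scheme.IdealSheafData.vanishingIdeal (X := S) ⟨Z, hZ⟩
  have hr : Set.range I.subschemeι = Z := by
    rw [Scheme.IdealSheafData.range_subschemeι, Scheme.IdealSheafData.coe_support_vanishingIdeal]
    rfl
  haveI : IsReduced I.subscheme := SepCrit.isReduced_vanishingIdeal _
  haveI : IrreducibleSpace I.subscheme := by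
    have hemb := I.subschemeι.isEmbedding
    have h1 : IsIrreducible (Set.range I.subschemeι) := hr ▸ hZi
    haveI := preirreducibleSpace_of_isInducing hemb.toIsInducing h1.2
    obtain ⟨_, z, rfl⟩ := h1.1
    exact ⟨⟨z⟩⟩
  haveI : IsIntegral I.subscheme := isIntegral_of_irreducibleSpace_of_isReduced _
  haveI : IsLocallyNoetherian I.subscheme := LocallyOfFiniteType.isLocallyNoetherian I.subschemeι
  haveI : CompactSpace I.subscheme := QuasiCompact.compactSpace_of_compactSpace I.subschemeι
  exact ⟨I.subscheme, I.subschemeι, inferInstance, inferInstance, ⟨⟩, hr⟩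

/-- abstract Noetherian criterion: a set whose trace on every integral closed subscheme satisfies
the dichotomy is constructible. -/
theorem isConstructible_of_dichotomy {S : Scheme.{u}} [IsNoetherian S] (E : Set S)
    (H : ∀ (Z' : Scheme.{u}) (i : Z' ⟶ S), IsClosedImmersion i → IsIntegral Z' → IsNoetherian Z' →
      (interior (i ⁻¹' E)).Nonempty ∨ (interior (i ⁻¹' E)ᶜ).Nonempty) :
    IsConstructible E := by
  rw [Groth.Agent.H8.CNoeth.isConstructible_iff]
  intro Z hZ hZi
  obtain ⟨Z', i, hi, hint, hnoe, hr⟩ := exists_integral_closed_subscheme Z hZ hZi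
  have hemb := i.isEmbedding
  have key : ∀ F : Set S, (interior (i ⁻¹' F)).Nonempty →
      ∃ U : Set S, IsOpen U ∧ (U ∩ Z).Nonempty ∧ U ∩ Z ⊆ F := by
    intro F hF
    obtain ⟨U, hU, hUW⟩ := hemb.toIsInducing.isOpen_iff.mp (isOpen_interior (s := i ⁻¹' F))
    obtain ⟨z, hz⟩ := hF
    refine ⟨U, hU, ⟨i z, ?_, hr ▸ Set.mem_range_self z⟩, ?_⟩
    · have : z ∈ i ⁻¹' U := hUW ▸ hz
      exact this
    · rintro x ⟨hxU, hxZ⟩
      rw [← hr] at hxZ
      obtain ⟨z', rfl⟩ := hxZ
      have : z' ∈ interior (i ⁻¹' F) := by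
        rw [← hUW]; exact hxU
      exact interior_subset (s := i ⁻¹' F) this
  rcases H Z' i hi hint hnoe with h | h
  · exact Or.inr (key E h)
  · obtain ⟨U, hU, hne, hsub⟩ := key Eᶜ (by rwa [Set.preimage_compl])
    exact Or.inl (Groth.Agent.H8.CNoeth.isNowhereDense_preimage_val hZi hU hne hsub)


theorem isIndConstructible_of_forall_exists {X : Type*} [TopologicalSpace X] {E : Set X}
    (h : ∀ s ∈ E, ∃ C, IsLocallyConstructible C ∧ s ∈ C ∧ C ⊆ E) :
    ProCons.IsIndConstructible E := by
  intro x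
  refine ⟨Set.univ, isOpen_univ, Set.mem_univ x,
    {T | ∃ C, IsLocallyConstructible C ∧ C ⊆ E ∧ T = Subtype.val ⁻¹' C}, ?_, ?_⟩
  · rintro T ⟨C, hC, -, rfl⟩
    exact hC.preimage_of_isOpenEmbedding isOpen_univ.isOpenEmbedding_subtypeVal
  · ext y
    constructor
    · intro hy
      obtain ⟨C, hC, hyC, hCE⟩ := h y.1 hy
      exact ⟨_, ⟨C, hC, hCE, rfl⟩, hyC⟩
    · rintro ⟨T, ⟨C, -, hCE, rfl⟩, hyC⟩
      exact hCE hyC

/-- abstract Noetherian criterion for ind-constructibility. -/
theorem isIndConstructible_of_generic {S : Scheme.{u}} [IsNoetherian S] (E : Set S)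
    (H : ∀ (Z' : Scheme.{u}) (i : Z' ⟶ S), IsClosedImmersion i → ∀ [IsIntegral Z'],
      IsNoetherian Z' → genericPoint Z' ∈ i ⁻¹' E → (interior (i ⁻¹' E)).Nonempty) :
    ProCons.IsIndConstructible E := by
  apply isIndConstructible_of_forall_exists
  intro s hs
  obtain ⟨Z', i, hi, hint, hnoe, hr⟩ := exists_integral_closed_subscheme (closure {s})
    isClosed_closure isIrreducible_singleton.closure
  have hemb := i.isEmbedding
  -- the generic point of `Z'` maps to `s`
  have hgen : i (genericPoint Z') = s := by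
    have h1 : closure {i (genericPoint Z')} = closure {s} := by
      rw [← Set.image_singleton, i.isClosedEmbedding.closure_image_eq,
        (genericPoint_spec Z').def, Set.image_univ, hr]
    exact ((specializes_iff_closure_subset.mpr h1.ge).antisymm
      (specializes_iff_closure_subset.mpr h1.le)).eq
  have hmem : genericPoint Z' ∈ i ⁻¹' E := by
    change i (genericPoint Z') ∈ E
    rw [hgen]; exact hs
  obtain ⟨z, hz⟩ := H Z' i hi hnoe hmem
  obtain ⟨U, hU, hUW⟩ := hemb.toIsInducing.isOpen_iff.mp (isOpen_interior (s := i ⁻¹' E))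
  have hzU : i z ∈ U := by
    have : z ∈ i ⁻¹' U := hUW ▸ hz
    exact this
  have hsU : s ∈ U := by
    have hspec : s ⤳ i z := by
      rw [specializes_iff_mem_closure, ← hr]
      exact Set.mem_range_self z
    exact hspec.mem_open hU hzU
  refine ⟨U ∩ closure {s}, ?_, ⟨hsU, subset_closure rfl⟩, ?_⟩
  · exact ((Groth.Agent.H8.CNoeth.isConstructible_of_isOpen hU).inter
      (Groth.Agent.H8.CNoeth.isConstructible_of_isClosed isClosed_closure)).isLocallyConstructible
  · rintro x ⟨hxU, hxZ⟩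
    rw [← hr] at hxZ
    obtain ⟨z', rfl⟩ := hxZ
    have : z' ∈ interior (i ⁻¹' E) := by
      rw [← hUW]; exact hxU
    exact interior_subset (s := i ⁻¹' E) this

end Groth.Agent.H3.ConsP
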