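import Groth.Agent.Lib.Helper3.ConsP.NoethLoc
import Groth.Agent.Lib.Helper5.Lim.FGSub2
import Groth.Agent.Lib.Helper5.Lim.Model3

set_option autoImplicit false
set_option linter.style.haveILetI false
universe u
open CategoryTheory CategoryTheory.Limits AlgebraicGeometry Topology TopologicalSpace

namespace Groth.Agent.H3.ConsP

open Groth.Agent.H5.Lim

instance isNoetherian_fgzDiagram_obj (A : Type u) [CommRing A] (j : (FGZ A)ᵒᵖ) :
    IsNoetherian ((fgzDiagram A).obj j) := by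
  haveI : Algebra.FiniteType ℤ ↥j.unop.1 := (Subalgebra.fg_iff_finiteType _).mp j.unop.2
  haveI : IsNoetherianRing ↥j.unop.1 := Algebra.FiniteType.isNoetherianRing ℤ _
  exact inferInstanceAs (IsNoetherian (Spec (CommRingCat.of ↥j.unop.1)))

instance isAffine_fgzDiagram_obj (A : Type u) [CommRing A] (j : (FGZ A)ᵒᵖ) :
    IsAffine ((fgzDiagram A).obj j) :=
  inferInstanceAs (IsAffine (Spec (CommRingCat.of ↥j.unop.1)))

section Pair

variable {X Y : Scheme.{u}} (A : Type u) [CommRing A]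
  (u : X ⟶ Spec (CommRingCat.of A)) (v : Y ⟶ Spec (CommRingCat.of A))
  [LocallyOfFinitePresentation u] [QuasiCompact u] [QuasiSeparated u]
  [LocallyOfFinitePresentation v] [QuasiCompact v] [QuasiSeparated v]

/-- common Noetherian models of two schemes of finite presentation over `Spec A`. -/
theorem exists_noeth_model_pair :
    ∃ (S₀ : Scheme.{u}) (π : Spec (CommRingCat.of A) ⟶ S₀) (X₀ Y₀ : Scheme.{u})
      (u₀ : X₀ ⟶ S₀) (v₀ : Y₀ ⟶ S₀) (a : X ⟶ X₀) (b : Y ⟶ Y₀),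
      IsNoetherian S₀ ∧ IsAffine S₀ ∧ LocallyOfFinitePresentation u₀ ∧ QuasiCompact u₀ ∧
        LocallyOfFinitePresentation v₀ ∧ QuasiCompact v₀ ∧
        IsPullback a u u₀ π ∧ IsPullback b v v₀ π := by
  let u' : X ⟶ (fgzCone A).pt := u
  let v' : Y ⟶ (fgzCone A).pt := v
  haveI : LocallyOfFinitePresentation u' := ‹LocallyOfFinitePresentation u›
  haveI : QuasiCompact u' := ‹QuasiCompact u›
  haveI : QuasiSeparated u' := ‹QuasiSeparated u›
  haveI : LocallyOfFinitePresentation v' := ‹LocallyOfFinitePresentation v›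
  haveI : QuasiCompact v' := ‹QuasiCompact v›
  haveI : QuasiSeparated v' := ‹QuasiSeparated v›
  obtain ⟨j₁, ⟨M₁⟩⟩ := exists_model (fgzDiagram A) (fgzCone A) (isLimitFgzCone A) u'
  obtain ⟨j₂, ⟨M₂⟩⟩ := exists_model (fgzDiagram A) (fgzCone A) (isLimitFgzCone A) v'
  let j := IsCofiltered.min j₁ j₂
  let N₁ := M₁.bc (IsCofiltered.minToLeft j₁ j₂)
  let N₂ := M₂.bc (IsCofiltered.minToRight j₁ j₂)
  exact ⟨(fgzDiagram A).obj j, (fgzCone A).π.app j, N₁.Y, N₂.Y, N₁.p, N₂.p, N₁.g, N₂.g,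
    inferInstance, inferInstance, N₁.lfp, N₁.qc, N₂.lfp, N₂.qc, N₁.pb, N₂.pb⟩

end Pair

section Mor

variable {X Y : Scheme.{u}} (A : Type u) [CommRing A]
  (f : X ⟶ Y) (g : Y ⟶ Spec (CommRingCat.of A))
  [LocallyOfFinitePresentation g] [QuasiCompact g] [QuasiSeparated g]
  [LocallyOfFinitePresentation (f ≫ g)] [QuasiCompact (f ≫ g)] [QuasiSeparated (f ≫ g)]

/-- Noetherian model of a morphism of schemes of finite presentation over `Spec A`. -/
theorem exists_noeth_model_mor :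
    ∃ (S₀ : Scheme.{u}) (π : Spec (CommRingCat.of A) ⟶ S₀) (X₀ Y₀ : Scheme.{u})
      (f₀ : X₀ ⟶ Y₀) (g₀ : Y₀ ⟶ S₀) (qY : Y ⟶ Y₀) (qX : X ⟶ X₀),
      IsNoetherian S₀ ∧ IsAffine S₀ ∧ LocallyOfFinitePresentation g₀ ∧ QuasiCompact g₀ ∧
        LocallyOfFinitePresentation (f₀ ≫ g₀) ∧ QuasiCompact (f₀ ≫ g₀) ∧
        IsPullback qY g g₀ π ∧ IsPullback qX f f₀ qY := by
  let g' : Y ⟶ (fgzCone A).pt := g
  let h' : X ⟶ (fgzCone A).pt := f ≫ g
  haveI : LocallyOfFinitePresentation g' := ‹LocallyOfFinitePresentation g›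
  haveI : QuasiCompact g' := ‹QuasiCompact g›
  haveI : QuasiSeparated g' := ‹QuasiSeparated g›
  haveI : LocallyOfFinitePresentation h' := ‹LocallyOfFinitePresentation (f ≫ g)›
  haveI : QuasiCompact h' := ‹QuasiCompact (f ≫ g)›
  haveI : QuasiSeparated h' := ‹QuasiSeparated (f ≫ g)›
  obtain ⟨j₁, ⟨M₁⟩⟩ := exists_model (fgzDiagram A) (fgzCone A) (isLimitFgzCone A) h'
  obtain ⟨j₂, ⟨M₂⟩⟩ := exists_model (fgzDiagram A) (fgzCone A) (isLimitFgzCone A) g'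
  let j := IsCofiltered.min j₁ j₂
  let N₁ := M₁.bc (IsCofiltered.minToLeft j₁ j₂)
  let N₂ := M₂.bc (IsCofiltered.minToRight j₁ j₂)
  obtain ⟨k, φ, ⟨F⟩⟩ := Model.exists_hom (isLimitFgzCone A) N₁ N₂ f rfl
  refine ⟨(fgzDiagram A).obj k, (fgzCone A).π.app k, (N₁.bc φ).Y, (N₂.bc φ).Y, F.α, (N₂.bc φ).p,
    (N₂.bc φ).g, (N₁.bc φ).g, inferInstance, inferInstance, (N₂.bc φ).lfp, (N₂.bc φ).qc, ?_, ?_,
    (N₂.bc φ).pb, F.isPullback rfl⟩
  · rw [F.w_p]; exact (N₁.bc φ).lfp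
  · rw [F.w_p]; exact (N₁.bc φ).qc

end Mor

end Groth.Agent.H3.ConsP
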