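import Groth.Agent.Lib.Helper5.Lim.Descend
import Groth.Agent.Lib.Helper5.Lim.DescendDiagonal
import Groth.Agent.Lib.Helper5.EtSrc.OfComp

set_option autoImplicit false
set_option linter.style.haveILetI false
universe u
open CategoryTheory CategoryTheory.Limits AlgebraicGeometry MorphismProperty Opposite

namespace Groth.Agent.H3.ConsP

open Groth.Agent.H5.Lim

/-- `Q` descends along cofiltered limits with affine transition maps, for morphisms between
schemes of finite presentation over a quasi-compact quasi-separated stage (standard form). -/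
structure CoreDescent (Q : MorphismProperty Scheme.{u}) : Prop where
  out : ∀ {I : Type u} [SmallCategory I] [IsCofiltered I] (D : I ⥤ Scheme.{u}) (c : Cone D)
    (_ : IsLimit c) [∀ (i j : I) (f : i ⟶ j), IsAffineHom (D.map f)] (i₀ : I)
    [CompactSpace (D.obj i₀)] [QuasiSeparatedSpace (D.obj i₀)]
    {X₀ Y₀ : Scheme.{u}} (f₀ : X₀ ⟶ Y₀) (g₀ : Y₀ ⟶ D.obj i₀)
    [LocallyOfFinitePresentation g₀] [QuasiCompact g₀] [QuasiSeparated g₀]
    [LocallyOfFinitePresentation (f₀ ≫ g₀)] [QuasiCompact (f₀ ≫ g₀)] [QuasiSeparated (f₀ ≫ g₀)],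
    Q (pullback.snd f₀ (pullback.fst g₀ (c.π.app i₀))) →
      ∃ k : Over i₀, Q (pullback.snd f₀ (pullback.fst g₀ (D.map k.hom)))

theorem coreDescent_of_affineSystemDescent {Q Φ : MorphismProperty Scheme.{u}}
    [IsZariskiLocalAtTarget Q] [Q.IsStableUnderBaseChange] [Φ.IsStableUnderBaseChange]
    (H : AffineSystemDescent Q Φ)
    (hΦ : ∀ {X Y : Scheme.{u}} (g : X ⟶ Y), LocallyOfFinitePresentation g → QuasiCompact g →
      QuasiSeparated g → Φ g) : CoreDescent Q := by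
  refine ⟨?_⟩
  intro I _ _ D c hc _ i₀ _ _ X₀ Y₀ f₀ g₀ _ _ _ _ _ _ hQ
  haveI : CompactSpace Y₀ := QuasiCompact.compactSpace_of_compactSpace g₀
  have h1 : LocallyOfFinitePresentation f₀ :=
    Groth.Agent.H5.EtSrc.locallyOfFinitePresentation_of_comp f₀ g₀ inferInstance inferInstance
  have h2 : QuasiCompact f₀ := QuasiCompact.of_comp f₀ g₀
  have h3 : QuasiSeparated f₀ := QuasiSeparated.of_comp f₀ g₀
  exact exists_descend_core D c hc H i₀ f₀ g₀ (hΦ f₀ h1 h2 h3) hQ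

theorem coreDescent_diagonal {P Φ : MorphismProperty Scheme.{u}}
    [IsZariskiLocalAtTarget P] [P.IsStableUnderBaseChange] [Φ.IsStableUnderBaseChange]
    (H : AffineSystemDescent P Φ)
    (hΦ : ∀ {X Y : Scheme.{u}} (g : X ⟶ Y), LocallyOfFinitePresentation g → QuasiCompact g →
      QuasiSeparated g → Φ g) : CoreDescent P.diagonal := by
  refine ⟨?_⟩
  intro I _ _ D c hc _ i₀ _ _ X₀ Y₀ f₀ g₀ _ _ _ _ _ _ hQ
  haveI : CompactSpace Y₀ := QuasiCompact.compactSpace_of_compactSpace g₀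
  haveI : CompactSpace X₀ := QuasiCompact.compactSpace_of_compactSpace (f₀ ≫ g₀)
  have h1 : LocallyOfFinitePresentation f₀ :=
    Groth.Agent.H5.EtSrc.locallyOfFinitePresentation_of_comp f₀ g₀ inferInstance inferInstance
  haveI h2 : QuasiCompact f₀ := QuasiCompact.of_comp f₀ g₀
  haveI h3 : QuasiSeparated f₀ := QuasiSeparated.of_comp f₀ g₀
  haveI : LocallyOfFiniteType f₀ := inferInstance
  haveI : CompactSpace ↥(pullback f₀ f₀) :=
    QuasiCompact.compactSpace_of_compactSpace (pullback.fst f₀ f₀)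
  have hdiag : LocallyOfFinitePresentation (pullback.diagonal f₀) :=
    Groth.Agent.H5.EtSrc.locallyOfFinitePresentation_of_comp (pullback.diagonal f₀)
      (pullback.fst f₀ f₀) (by rw [pullback.diagonal_fst]; infer_instance) inferInstance
  exact exists_descend_core_diagonal D c hc H i₀ f₀ g₀
    (hΦ (pullback.diagonal f₀) hdiag inferInstance inferInstance) hQ

theorem CoreDescent.inf {Q₁ Q₂ : MorphismProperty Scheme.{u}} [Q₁.IsStableUnderBaseChange]
    [Q₂.IsStableUnderBaseChange] (H₁ : CoreDescent Q₁) (H₂ : CoreDescent Q₂) :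
    CoreDescent (Q₁ ⊓ Q₂) := by
  refine ⟨?_⟩
  intro I _ _ D c hc _ i₀ _ _ X₀ Y₀ f₀ g₀ _ _ _ _ _ _ hQ
  obtain ⟨k₁, hk₁⟩ := H₁.out D c hc i₀ f₀ g₀ hQ.1
  obtain ⟨k₂, hk₂⟩ := H₂.out D c hc i₀ f₀ g₀ hQ.2
  exact ⟨IsCofiltered.min k₁ k₂,
    descend_mono D f₀ g₀ (IsCofiltered.minToLeft k₁ k₂) hk₁,
    descend_mono D f₀ g₀ (IsCofiltered.minToRight k₁ k₂) hk₂⟩

theorem CoreDescent.of_iff {Q₁ Q₂ : MorphismProperty Scheme.{u}} (H₁ : CoreDescent Q₁)
    (h : ∀ {X Y : Scheme.{u}} (f : X ⟶ Y), Q₁ f ↔ Q₂ f) : CoreDescent Q₂ := by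
  refine ⟨?_⟩
  intro I _ _ D c hc _ i₀ _ _ X₀ Y₀ f₀ g₀ _ _ _ _ _ _ hQ
  obtain ⟨k, hk⟩ := H₁.out D c hc i₀ f₀ g₀ ((h _).mpr hQ)
  exact ⟨k, (h _).mp hk⟩

end Groth.Agent.H3.ConsP
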