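import Groth.Agent.Lib.Helper3.ConsP.LocalMor
import Groth.Agent.Lib.Helper5.Lim.ProConsFlat

set_option autoImplicit false
set_option linter.style.haveILetI false
universe u
open CategoryTheory CategoryTheory.Limits AlgebraicGeometry Topology TopologicalSpace
open scoped Set.Notation

namespace Groth.Agent.H3.ConsP

open Groth.Agent.H5.Lim

section Pair

variable {P : ∀ ⦃X Y T : Scheme.{u}⦄, (X ⟶ T) → (Y ⟶ T) → Prop}

theorem forall_mem_locusPair_iff_exists (hP : ConsPropPair.IsIndConsPair P)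
    {I : Type u} [SmallCategory I] [IsCofiltered I]
    (D : I ⥤ Scheme.{u}) (c : Limits.Cone D) (hc : Limits.IsLimit c)
    [∀ (i j : I) (a : i ⟶ j), IsAffineHom (D.map a)] (i₀ : I) [CompactSpace ↥(D.obj i₀)]
    {X₀ Y₀ : Scheme.{u}} (u₀ : X₀ ⟶ D.obj i₀) (v₀ : Y₀ ⟶ D.obj i₀)
    [LocallyOfFinitePresentation u₀] [QuasiCompact u₀] [QuasiSeparated u₀]
    [LocallyOfFinitePresentation v₀] [QuasiCompact v₀] [QuasiSeparated v₀]
    {X Y : Scheme.{u}} (u : X ⟶ c.pt) (v : Y ⟶ c.pt) (qX : X ⟶ X₀) (qY : Y ⟶ Y₀)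
    (hX : IsPullback qX u u₀ (c.π.app i₀)) (hY : IsPullback qY v v₀ (c.π.app i₀)) :
    (∀ s : ↥c.pt, s ∈ ConsPropPair.locusPair P u v) ↔
      ∃ (j : I) (φ : j ⟶ i₀) (Xj Yj : Scheme.{u}) (uj : Xj ⟶ D.obj j) (vj : Yj ⟶ D.obj j)
        (pX : Xj ⟶ X₀) (pY : Yj ⟶ Y₀), IsPullback pX uj u₀ (D.map φ) ∧
          IsPullback pY vj v₀ (D.map φ) ∧
          ∀ t : ↥(D.obj j), t ∈ ConsPropPair.locusPair P uj vj := by
  have hE₀ := isIndConstructible_locusPair_of_fp u₀ v₀ hP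
  have key := preimage_subset_preimage_iff_exists D c hc i₀ Set.univ
    (ConsPropPair.locusPair P u₀ v₀) isProConstructible_univ hE₀
  rw [locusPair_preimage hP.1 hX hY]
  constructor
  · intro h
    obtain ⟨k, φ, hk⟩ := key.mp (fun s _ => h s)
    refine ⟨k, φ, pullback u₀ (D.map φ), pullback v₀ (D.map φ), pullback.snd _ _,
      pullback.snd _ _, pullback.fst _ _, pullback.fst _ _, IsPullback.of_hasPullback _ _,
      IsPullback.of_hasPullback _ _, ?_⟩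
    rw [locusPair_preimage hP.1 (IsPullback.of_hasPullback u₀ (D.map φ))
      (IsPullback.of_hasPullback v₀ (D.map φ))]
    exact fun t => hk (Set.mem_univ _)
  · rintro ⟨j, φ, Xj, Yj, uj, vj, pX, pY, h1, h2, h3⟩ s
    rw [locusPair_preimage hP.1 h1 h2] at h3
    exact key.mpr ⟨j, φ, fun t _ => h3 t⟩ (Set.mem_univ s)

end Pair

section Mor

variable {P : ∀ ⦃X Y T : Scheme.{u}⦄, (X ⟶ Y) → (Y ⟶ T) → Prop}

theorem forall_mem_locusMor_iff_exists (hP : ConsProp.IsIndConsMor P)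
    {I : Type u} [SmallCategory I] [IsCofiltered I]
    (D : I ⥤ Scheme.{u}) (c : Limits.Cone D) (hc : Limits.IsLimit c)
    [∀ (i j : I) (a : i ⟶ j), IsAffineHom (D.map a)] (i₀ : I) [CompactSpace ↥(D.obj i₀)]
    {X₀ Y₀ : Scheme.{u}} (f₀ : X₀ ⟶ Y₀) (g₀ : Y₀ ⟶ D.obj i₀)
    [LocallyOfFinitePresentation g₀] [QuasiCompact g₀] [QuasiSeparated g₀]
    [LocallyOfFinitePresentation (f₀ ≫ g₀)] [QuasiCompact (f₀ ≫ g₀)] [QuasiSeparated (f₀ ≫ g₀)]
    {X Y : Scheme.{u}} (f : X ⟶ Y) (g : Y ⟶ c.pt) (qY : Y ⟶ Y₀) (qX : X ⟶ X₀)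
    (hY : IsPullback qY g g₀ (c.π.app i₀)) (hX : IsPullback qX f f₀ qY) :
    (∀ s : ↥c.pt, s ∈ ConsProp.locusMor P f g) ↔
      ∃ (j : I) (φ : j ⟶ i₀) (Xj Yj : Scheme.{u}) (fj : Xj ⟶ Yj) (gj : Yj ⟶ D.obj j)
        (pY : Yj ⟶ Y₀) (pX : Xj ⟶ X₀), IsPullback pY gj g₀ (D.map φ) ∧ IsPullback pX fj f₀ pY ∧
          ∀ t : ↥(D.obj j), t ∈ ConsProp.locusMor P fj gj := by
  have hE₀ := isIndConstructible_locusMor_of_fp f₀ g₀ hP
  have key := preimage_subset_preimage_iff_exists D c hc i₀ Set.univ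
    (ConsProp.locusMor P f₀ g₀) isProConstructible_univ hE₀
  rw [locusMor_preimage hP.1 hY hX]
  constructor
  · intro h
    obtain ⟨k, φ, hk⟩ := key.mp (fun s _ => h s)
    refine ⟨k, φ, pullback (f₀ ≫ g₀) (D.map φ), pullback g₀ (D.map φ), bcMor f₀ g₀ (D.map φ),
      pullback.snd _ _, pullback.fst _ _, pullback.fst _ _, IsPullback.of_hasPullback _ _,
      isPullback_bcMor f₀ g₀ (D.map φ), ?_⟩
    rw [locusMor_bcMor f₀ g₀ hP.1 (D.map φ)]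
    exact fun t => hk (Set.mem_univ _)
  · rintro ⟨j, φ, Xj, Yj, fj, gj, pY, pX, h1, h2, h3⟩ s
    rw [locusMor_preimage hP.1 h1 h2] at h3
    exact key.mpr ⟨j, φ, fun t _ => h3 t⟩ (Set.mem_univ s)

end Mor

end Groth.Agent.H3.ConsP
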