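import Groth.Agent.Lib.Helper3.ConsP.Single
import Groth.Agent.Lib.Helper3.ConsUI
import Groth.Agent.Lib.Helper5.Cons.C2
import Groth.Agent.Lib.Helper2.ProConsLib

set_option autoImplicit false
set_option linter.style.haveILetI false
universe u
open CategoryTheory CategoryTheory.Limits AlgebraicGeometry Topology TopologicalSpace

namespace Groth.Agent.H3.ConsP

theorem isNoetherian_of_subsingleton (T : Scheme.{u}) [IsIntegral T] [Subsingleton T] :
    IsNoetherian T := by
  haveI := ConsDim.isAffine_of_subsingleton T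
  letI : Field ↑Γ(T, ⊤) := (ConsDim.isField_of_subsingleton T).toField
  haveI : IsLocallyNoetherian (Spec Γ(T, ⊤)) := inferInstance
  haveI : IsLocallyNoetherian T := isLocallyNoetherian_of_isOpenImmersion T.isoSpec.hom
  haveI : CompactSpace T := inferInstance
  exact {}

theorem isNoetherian_of_lft_qc {Y S : Scheme.{u}} (g : Y ⟶ S) [IsNoetherian S]
    [LocallyOfFiniteType g] [QuasiCompact g] : IsNoetherian Y := by
  haveI : IsLocallyNoetherian Y := LocallyOfFiniteType.isLocallyNoetherian g
  haveI : CompactSpace Y := QuasiCompact.compactSpace_of_compactSpace g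
  exact {}

theorem quasiCompact_of_noetherianSpace {X Y : Scheme.{u}} (f : X ⟶ Y) [NoetherianSpace X] :
    QuasiCompact f :=
  ⟨fun _ _ _ => NoetherianSpace.isCompact _⟩

/-- over a Noetherian base, a morphism between schemes of finite type is quasi-compact. -/
theorem quasiCompact_of_comp_noeth {X Y S : Scheme.{u}} (f : X ⟶ Y) (g : Y ⟶ S) [IsNoetherian S]
    [LocallyOfFiniteType (f ≫ g)] [QuasiCompact (f ≫ g)] : QuasiCompact f := by
  haveI := isNoetherian_of_lft_qc (f ≫ g)
  exact quasiCompact_of_noetherianSpace f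

theorem isPullback_fiberMap {X Y S : Scheme.{u}} (f : X ⟶ Y) (g : Y ⟶ S) (s : S) :
    IsPullback ((f ≫ g).fiberι s) (MoreMor.fiberMap f g s) f (g.fiberι s) := by
  refine IsPullback.of_bot ?_ (fiberMap_fiberι f g s).symm
    (IsPullback.of_hasPullback g (S.fromSpecResidueField s))
  have h := IsPullback.of_hasPullback (f ≫ g) (S.fromSpecResidueField s)
  have e : MoreMor.fiberMap f g s ≫ pullback.snd g (S.fromSpecResidueField s) =
      pullback.snd (f ≫ g) (S.fromSpecResidueField s) := fiberMap_toSpec f g s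
  rw [e]
  exact h

theorem interior_nonempty_of_isIndConstructible {S : Scheme.{u}} [IrreducibleSpace S]
    {E : Set S} (hE : ProCons.IsIndConstructible E) (h : genericPoint S ∈ E) :
    (interior E).Nonempty := by
  refine ⟨genericPoint S, ?_⟩
  rw [← compl_compl E, interior_compl]
  intro hcl
  obtain ⟨z, hz, hzs⟩ := Groth.Agent.H2.ProConsLib.exists_specializes_of_mem_closure
    (Groth.Agent.H2.ProConsLib.isProConstructible_compl hE) hcl
  have h2 : genericPoint S ⤳ z := genericPoint_specializes z
  have h3 : z = genericPoint S := (hzs.antisymm h2).eq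
  rw [h3] at hz
  exact hz h

section AllFib

variable {P : ∀ ⦃Y T : Scheme.{u}⦄, (Y ⟶ T) → Prop}

theorem mem_locusMor_allFib_iff (hP : ConsProp.IsFieldStable P) {X Y S : Scheme.{u}} (f : X ⟶ Y)
    (g : Y ⟶ S) [LocallyOfFiniteType f] [QuasiCompact f] (s : S) :
    s ∈ ConsProp.locusMor (fun _ Y _ f _ => ∀ y : ↥Y, P (f.fiberToSpecResidueField y)) f g ↔
      g ⁻¹' {s} ⊆ ConsProp.locus P f := by
  have h1 := locus_preimage hP (isPullback_fiberMap f g s)
  rw [← Scheme.Hom.range_fiberι g s, Set.range_subset_iff]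
  change (∀ y : ↥(g.fiber s), y ∈ ConsProp.locus P (MoreMor.fiberMap f g s)) ↔ _
  rw [h1]
  rfl

theorem locusMor_allFib_eq (hP : ConsProp.IsFieldStable P) {X Y S : Scheme.{u}} (f : X ⟶ Y)
    (g : Y ⟶ S) [LocallyOfFiniteType f] [QuasiCompact f] :
    ConsProp.locusMor (fun _ Y _ f _ => ∀ y : ↥Y, P (f.fiberToSpecResidueField y)) f g =
      {s | g ⁻¹' {s} ⊆ ConsProp.locus P f} := by
  ext s
  exact mem_locusMor_allFib_iff hP f g s

theorem isFieldStableMor_allFib (hP : ConsProp.IsFieldStable P) :
    ConsProp.IsFieldStableMor (fun _ Y _ f _ => ∀ y : ↥Y, P (f.fiberToSpecResidueField y)) := by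
  intro X X' Y Y' T T' f g f' g' eX eY h _ _ _ _ _ _ _ _ sqY sqX
  haveI := isNoetherian_of_subsingleton T
  haveI : LocallyOfFiniteType f := locallyOfFiniteType_of_comp f g
  haveI : QuasiCompact f := quasiCompact_of_comp_noeth f g
  have h1 := locus_preimage hP sqX
  have hsurj : Surjective eY :=
    MorphismProperty.of_isPullback (P := @Surjective) sqY.flip (ConsUI.fpqc_of_subsingleton h).1.1
  change (∀ y : ↥Y, y ∈ ConsProp.locus P f) ↔ (∀ y' : ↥Y', y' ∈ ConsProp.locus P f')
  rw [h1]
  constructor
  · intro H y'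
    exact H (eY y')
  · intro H y
    obtain ⟨y', rfl⟩ := hsurj.surj y
    exact H y'

theorem isConsMor_allFib (hP : ConsProp.IsCons P) :
    ConsProp.IsConsMor (fun _ Y _ f _ => ∀ y : ↥Y, P (f.fiberToSpecResidueField y)) := by
  refine ⟨isFieldStableMor_allFib hP.1, ?_⟩
  intro X Y S f g _ _ _ _ _ _
  haveI : LocallyOfFiniteType f := locallyOfFiniteType_of_comp f g
  haveI : QuasiCompact f := quasiCompact_of_comp_noeth f g
  haveI := isNoetherian_of_lft_qc g
  haveI : LocallyOfFinitePresentation g :=
    LocallyOfFinitePresentation.iff_locallyOfFiniteType.mpr inferInstance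
  rw [locusMor_allFib_eq hP.1]
  exact ConsUI.interior_nonempty_or (H5.Cons.isLocallyConstructible_fibre_subset g
    (isConstructible_locus f hP).isLocallyConstructible)

theorem isIndConsMor_allFib (hP : ConsProp.IsIndCons P) :
    ConsProp.IsIndConsMor (fun _ Y _ f _ => ∀ y : ↥Y, P (f.fiberToSpecResidueField y)) := by
  refine ⟨isFieldStableMor_allFib hP.1, ?_⟩
  intro X Y S f g _ _ _ _ _ _
  haveI : LocallyOfFiniteType f := locallyOfFiniteType_of_comp f g
  haveI : QuasiCompact f := quasiCompact_of_comp_noeth f g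
  haveI := isNoetherian_of_lft_qc g
  rw [locusMor_allFib_eq hP.1]
  have hE := isIndConstructible_locus f hP
  have hset : {s | g ⁻¹' {s} ⊆ ConsProp.locus P f} = (g '' (ConsProp.locus P f)ᶜ)ᶜ := by
    ext s
    simp only [Set.mem_ofPred_eq, Set.mem_compl_iff, Set.mem_image, not_exists, not_and]
    constructor
    · intro h y hy hys
      exact hy (h hys)
    · intro h y hy
      by_contra hyT
      exact h y hyT hy
  rw [hset]
  exact interior_nonempty_of_isIndConstructible
    (Groth.Agent.H2.ProConsLib.isIndConstructible_compl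
      (Groth.Agent.H2.ProConsLib.isProConstructible_image g
        (Groth.Agent.H2.ProConsLib.isProConstructible_compl hE)))

end AllFib

end Groth.Agent.H3.ConsP
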