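import Groth.Agent.Lib.Helper3.ConsP.Spread
import Groth.Agent.Lib.Helper3.ConsP.FibAll

set_option autoImplicit false
set_option linter.style.haveILetI false
universe u
open CategoryTheory CategoryTheory.Limits AlgebraicGeometry MorphismProperty Opposite Topology

namespace Groth.Agent.H3.ConsP

open Groth.Agent.H5.Lim

/-- the relation on pairs of algebraic schemes: after some extension of the base field there is a
morphism with property `Q` between the base changes. -/
def ExistsHom (Q : MorphismProperty Scheme.{u}) :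
    ∀ ⦃X Y T : Scheme.{u}⦄, (X ⟶ T) → (Y ⟶ T) → Prop :=
  fun X Y T gX gY => ∃ (T' X' Y' : Scheme.{u}) (h : T' ⟶ T) (gX' : X' ⟶ T') (gY' : Y' ⟶ T')
    (eX : X' ⟶ X) (eY : Y' ⟶ Y), IsIntegral T' ∧ Subsingleton ↥T' ∧
      IsPullback eX gX' gX h ∧ IsPullback eY gY' gY h ∧
        ∃ g : X' ⟶ Y', g ≫ gY' = gX' ∧ Q g

theorem quasiSeparated_of_noeth {X S : Scheme.{u}} (u : X ⟶ S) [IsNoetherian S]
    [LocallyOfFiniteType u] [QuasiCompact u] : QuasiSeparated u := by
  haveI := isNoetherian_of_lft_qc u
  infer_instance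

section Generic

variable {Q : MorphismProperty Scheme.{u}} [Q.IsStableUnderBaseChange]

theorem interior_locusPair_existsHom (H : CoreDescent Q)
    {X Y S : Scheme.{u}} (u : X ⟶ S) (v : Y ⟶ S) [IsIntegral S] [IsNoetherian S]
    [LocallyOfFiniteType u] [QuasiCompact u] [LocallyOfFiniteType v] [QuasiCompact v]
    (hgen : genericPoint S ∈ ConsPropPair.locusPair (ExistsHom Q) u v) :
    (interior (ConsPropPair.locusPair (ExistsHom Q) u v)).Nonempty := by
  set η := genericPoint S with hη
  obtain ⟨T', X', Y', h, gX', gY', eX, eY, hT'int, hT'sub, hX, hY, g, hg, hQ⟩ := hgen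
  haveI := hT'int
  haveI := hT'sub
  haveI : LocallyOfFinitePresentation u :=
    LocallyOfFinitePresentation.iff_locallyOfFiniteType.mpr inferInstance
  haveI : LocallyOfFinitePresentation v :=
    LocallyOfFinitePresentation.iff_locallyOfFiniteType.mpr inferInstance
  haveI : QuasiSeparated u := quasiSeparated_of_noeth u
  haveI : QuasiSeparated v := quasiSeparated_of_noeth v
  obtain ⟨U₀, hU₀, hηU₀, -⟩ := Groth.Agent.H2.ProConsLib.exists_affine_nhd η isOpen_univ
    (Set.mem_univ _)
  let R : Type u := Γ(S, U₀)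
  let j : Spec (CommRingCat.of R) ⟶ S := hU₀.fromSpec
  haveI : IsOpenImmersion j := inferInstanceAs (IsOpenImmersion hU₀.fromSpec)
  haveI := ConsDim.isAffine_of_subsingleton T'
  let k' : Type u := Γ(T', ⊤)
  let e' : T' ≅ Spec (CommRingCat.of k') := T'.isoSpec
  let t : T' ⟶ S := h ≫ S.fromSpecResidueField η
  have ht_apply : ∀ z : T', t z = η := by
    intro z
    have : t z ∈ Set.range (S.fromSpecResidueField η) := ⟨h z, rfl⟩
    rw [Scheme.range_fromSpecResidueField] at this
    exact this
  have hrange : Set.range (e'.inv ≫ t) ⊆ Set.range j := by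
    rintro _ ⟨z, rfl⟩
    change j.opensRange.1 _
    rw [show j.opensRange = U₀ from hU₀.opensRange_fromSpec]
    change t (e'.inv z) ∈ U₀
    rw [ht_apply]
    exact hηU₀
  let a : Spec (CommRingCat.of k') ⟶ Spec (CommRingCat.of R) :=
    IsOpenImmersion.lift j (e'.inv ≫ t) hrange
  have ha : a ≫ j = e'.inv ≫ t := IsOpenImmersion.lift_fac _ _ _
  let ψ : CommRingCat.of R ⟶ CommRingCat.of k' := Spec.preimage a
  have hψ : Spec.map ψ = a := Spec.map_preimage a
  letI : Algebra R k' := ψ.hom.toAlgebra
  have halg : CommRingCat.ofHom (algebraMap R k') = ψ := rfl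
  have ht : e'.hom ≫ Spec.map (CommRingCat.ofHom (algebraMap R k')) ≫ j = t := by
    rw [halg, hψ, ha, Iso.hom_inv_id_assoc]
  have bigX : IsPullback (eX ≫ u.fiberι η) gX' u t :=
    hX.paste_horiz (IsPullback.of_hasPullback u (S.fromSpecResidueField η))
  have bigY : IsPullback (eY ≫ v.fiberι η) gY' v t :=
    hY.paste_horiz (IsPullback.of_hasPullback v (S.fromSpecResidueField η))
  obtain ⟨A, Xi, Yi, fi, gi, qX, qY, sqX, sqY, hfi⟩ :=
    exists_spread H j e' u v gX' gY' (eX ≫ u.fiberι η) (eY ≫ v.fiberι η)
      (by rw [ht]; exact bigX) (by rw [ht]; exact bigY) g hg hQ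
  let p : (fgrDiagram R k').obj A ⟶ S := fgrToBase R k' A ≫ j
  haveI : LocallyOfFiniteType p := inferInstanceAs (LocallyOfFiniteType (fgrToBase R k' A ≫ j))
  haveI : QuasiCompact p := inferInstance
  haveI : LocallyOfFinitePresentation p :=
    LocallyOfFinitePresentation.iff_locallyOfFiniteType.mpr inferInstance
  -- the generic point lies in the image
  have hηp : η ∈ Set.range p := by
    obtain ⟨t₀⟩ : Nonempty T' := inferInstance
    refine ⟨(e'.hom ≫ (fgrCone R k').π.app A) t₀, ?_⟩
    have e1 : (e'.hom ≫ (fgrCone R k').π.app A) ≫ p = t := by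
      rw [← ht]
      exact (Category.assoc _ _ _).trans (congrArg (e'.hom ≫ ·)
        ((Category.assoc _ _ _).symm.trans (congrArg (· ≫ j) (fgrCone_π_toBase R k' A))))
    rw [← Scheme.Hom.comp_apply, e1]
    exact ht_apply t₀
  -- the image lies in the locus
  have hsub : Set.range p ⊆ ConsPropPair.locusPair (ExistsHom Q) u v := by
    rintro _ ⟨s', rfl⟩
    exact ⟨Spec (((fgrDiagram R k').obj A).residueField s'), (fi ≫ gi).fiber s', gi.fiber s', resMap p s',
      (fi ≫ gi).fiberToSpecResidueField s', gi.fiberToSpecResidueField s',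
      fibComp sqX s', fibComp sqY s', inferInstance, inferInstance,
      isPullback_fibComp sqX s', isPullback_fibComp sqY s',
      MoreMor.fiberMap fi gi s', fiberMap_toSpec fi gi s',
      Q.of_isPullback (isPullback_fiberMap fi gi s') hfi⟩
  -- the image is constructible
  have hcons : IsConstructible (Set.range p) := by
    rw [← Set.image_univ]
    exact p.isConstructible_image IsConstructible.univ
  have hind : ProCons.IsIndConstructible (Set.range p) :=
    (Groth.Agent.H2.ProConsLib.isLocallyConstructible_iff.mp hcons.isLocallyConstructible).1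
  obtain ⟨x, hx⟩ := interior_nonempty_of_isIndConstructible hind hηp
  exact ⟨x, interior_mono hsub hx⟩

end Generic

end Groth.Agent.H3.ConsP
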