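import Groth.Agent.Lib.Helper3.ConsP.ExHom

set_option autoImplicit false
set_option linter.style.haveILetI false
universe u
open CategoryTheory CategoryTheory.Limits AlgebraicGeometry MorphismProperty Opposite Topology

namespace Groth.Agent.H3.ConsP

open Groth.Agent.H5.Lim

lemma exists_isPullback_of_paste {X X' X₁ T T' T₁ T₂ : Scheme.{u}} {gX : X ⟶ T} {gX' : X' ⟶ T'}
    {gX₁ : X₁ ⟶ T₁} {eX : X' ⟶ X} {e₁X : X₁ ⟶ X} {h : T' ⟶ T} {h₁ : T₁ ⟶ T}
    (hX : IsPullback eX gX' gX h) (hX₁ : IsPullback e₁X gX₁ gX h₁) (a : T₂ ⟶ T') (b : T₂ ⟶ T₁)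
    (hab : a ≫ h = b ≫ h₁) :
    ∃ e : pullback gX₁ b ⟶ X', IsPullback e (pullback.snd gX₁ b) gX' a := by
  have big : IsPullback (pullback.fst gX₁ b ≫ e₁X) (pullback.snd gX₁ b) gX (b ≫ h₁) :=
    (IsPullback.of_hasPullback gX₁ b).paste_horiz hX₁
  rw [← hab] at big
  have w : (pullback.fst gX₁ b ≫ e₁X) ≫ gX = (pullback.snd gX₁ b ≫ a) ≫ h := by
    rw [big.w, Category.assoc]
  refine ⟨hX.lift _ _ w, ?_⟩
  refine IsPullback.of_right ?_ (hX.lift_snd _ _ w) hX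
  rw [hX.lift_fst]
  exact big

theorem isFieldStablePair_existsHom (Q : MorphismProperty Scheme.{u}) [Q.IsStableUnderBaseChange] :
    ConsPropPair.IsFieldStablePair (ExistsHom Q) := by
  intro X X' Y Y' T T' gX gY gX' gY' eX eY h _ _ _ _ _ _ _ _ hX hY
  constructor
  · rintro ⟨T₁, X₁, Y₁, h₁, gX₁, gY₁, e₁X, e₁Y, hT₁int, hT₁sub, hX₁, hY₁, g₁, hg₁, hQ₁⟩
    haveI := hT₁int
    haveI := hT₁sub
    have hsurj : Surjective (pullback.fst h h₁) :=
      MorphismProperty.pullback_fst (P := @Surjective) _ _ (ConsUI.fpqc_of_subsingleton h₁).1.1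
    obtain ⟨t'⟩ : Nonempty T' := inferInstance
    obtain ⟨w, -⟩ := hsurj.surj t'
    let a : Spec ((pullback h h₁).residueField w) ⟶ T' :=
      (pullback h h₁).fromSpecResidueField w ≫ pullback.fst h h₁
    let b : Spec ((pullback h h₁).residueField w) ⟶ T₁ :=
      (pullback h h₁).fromSpecResidueField w ≫ pullback.snd h h₁
    have hab : a ≫ h = b ≫ h₁ := by
      simp only [a, b, Category.assoc, pullback.condition]
    subst hg₁
    obtain ⟨eX₂, hX₂⟩ := exists_isPullback_of_paste hX hX₁ a b hab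
    obtain ⟨eY₂, hY₂⟩ := exists_isPullback_of_paste hY hY₁ a b hab
    exact ⟨Spec ((pullback h h₁).residueField w), pullback (g₁ ≫ gY₁) b, pullback gY₁ b, a,
      pullback.snd _ _, pullback.snd _ _, eX₂, eY₂, inferInstance, inferInstance, hX₂, hY₂,
      bcMor g₁ gY₁ b, bcMor_snd g₁ gY₁ b, Q.of_isPullback (isPullback_bcMor g₁ gY₁ b) hQ₁⟩
  · rintro ⟨T₁, X₁, Y₁, h₁, gX₁, gY₁, e₁X, e₁Y, hT₁int, hT₁sub, hX₁, hY₁, g₁, hg₁, hQ₁⟩
    exact ⟨T₁, X₁, Y₁, h₁ ≫ h, gX₁, gY₁, e₁X ≫ eX, e₁Y ≫ eY, hT₁int, hT₁sub,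
      hX₁.paste_horiz hX, hY₁.paste_horiz hY, g₁, hg₁, hQ₁⟩

theorem isIndConsPair_existsHom {Q : MorphismProperty Scheme.{u}}
    [Q.IsStableUnderBaseChange] (H : CoreDescent Q) :
    ConsPropPair.IsIndConsPair (ExistsHom Q) :=
  ⟨isFieldStablePair_existsHom Q, fun _ _ _ u v _ _ _ _ _ _ hgen =>
    interior_locusPair_existsHom H u v hgen⟩

end Groth.Agent.H3.ConsP
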