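import Groth.Agent.Lib.Helper3.ConsP.ExHom2
import Groth.Agent.Lib.Helper5.Lim.DescendProps
import Groth.Agent.Lib.Helper5.Lim.DescendIso
import Groth.Agent.Lib.Helper5.Lim.DescendImmersion
import Groth.Agent.Lib.Helper5.Lim.DescendSurjective
import Groth.Agent.Lib.Helper5.Lim.DescendQuasiFinite
import Groth.Agent.Lib.Helper5.Lim.DescendFlat

set_option autoImplicit false
set_option linter.style.haveILetI false
universe u
open CategoryTheory CategoryTheory.Limits AlgebraicGeometry MorphismProperty Opposite Topology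

namespace Groth.Agent.H3.ConsP

open Groth.Agent.H5.Lim

/-- a property that holds for every base change of a morphism of finite presentation descends. -/
theorem coreDescent_of_forall {Q : MorphismProperty Scheme.{u}}
    (h : ∀ {X Y : Scheme.{u}} (f : X ⟶ Y), LocallyOfFinitePresentation f → QuasiCompact f →
      QuasiSeparated f → Q f) : CoreDescent Q := by
  refine ⟨?_⟩
  intro I _ _ D c hc _ i₀ _ _ X₀ Y₀ f₀ g₀ _ _ _ _ _ _ _
  have h1 : LocallyOfFinitePresentation f₀ :=
    Groth.Agent.H5.EtSrc.locallyOfFinitePresentation_of_comp f₀ g₀ inferInstance inferInstance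
  have h2 : QuasiCompact f₀ := QuasiCompact.of_comp f₀ g₀
  have h3 : QuasiSeparated f₀ := QuasiSeparated.of_comp f₀ g₀
  exact ⟨Over.mk (𝟙 i₀), h _ inferInstance inferInstance inferInstance⟩

theorem CoreDescent.of_imp {Q₁ Q₂ : MorphismProperty Scheme.{u}} (H₁ : CoreDescent Q₁)
    (h21 : ∀ {X Y : Scheme.{u}} (f : X ⟶ Y), Q₂ f → Q₁ f)
    (h12 : ∀ {X Y : Scheme.{u}} (f : X ⟶ Y), LocallyOfFinitePresentation f → Q₁ f → Q₂ f) :
    CoreDescent Q₂ := by
  refine ⟨?_⟩
  intro I _ _ D c hc _ i₀ _ _ X₀ Y₀ f₀ g₀ _ _ _ _ _ _ hQ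
  have h1 : LocallyOfFinitePresentation f₀ :=
    Groth.Agent.H5.EtSrc.locallyOfFinitePresentation_of_comp f₀ g₀ inferInstance inferInstance
  obtain ⟨k, hk⟩ := H₁.out D c hc i₀ f₀ g₀ (h21 _ hQ)
  exact ⟨k, h12 _ inferInstance hk⟩

theorem hΦ_lfp {X Y : Scheme.{u}} (g : X ⟶ Y) (h1 : LocallyOfFinitePresentation g)
    (h2 : QuasiCompact g) (h3 : QuasiSeparated g) :
    (@LocallyOfFinitePresentation ⊓ (@QuasiCompact ⊓ @QuasiSeparated) :
      MorphismProperty Scheme.{u}) g := ⟨h1, h2, h3⟩

theorem hΦ_lft {X Y : Scheme.{u}} (g : X ⟶ Y) (h1 : LocallyOfFinitePresentation g)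
    (h2 : QuasiCompact g) (h3 : QuasiSeparated g) :
    (@LocallyOfFiniteType ⊓ (@QuasiCompact ⊓ @QuasiSeparated) :
      MorphismProperty Scheme.{u}) g := ⟨inferInstance, h2, h3⟩

theorem hΦ_qcqs {X Y : Scheme.{u}} (g : X ⟶ Y) (_ : LocallyOfFinitePresentation g)
    (h2 : QuasiCompact g) (h3 : QuasiSeparated g) :
    (@QuasiCompact ⊓ @QuasiSeparated : MorphismProperty Scheme.{u}) g := ⟨h2, h3⟩

theorem coreDescent_isomorphisms : CoreDescent (isomorphisms Scheme.{u}) :=
  coreDescent_of_affineSystemDescent affineSystemDescent_isomorphisms hΦ_lfp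

theorem coreDescent_isClosedImmersion : CoreDescent.{u} @IsClosedImmersion :=
  coreDescent_of_affineSystemDescent affineSystemDescent_isClosedImmersion hΦ_lft

theorem coreDescent_surjective : CoreDescent.{u} @Surjective :=
  coreDescent_of_affineSystemDescent affineSystemDescent_surjective hΦ_lfp

theorem coreDescent_isFinite : CoreDescent.{u} @IsFinite :=
  coreDescent_of_affineSystemDescent affineSystemDescent_isFinite hΦ_lft

theorem coreDescent_isAffineHom : CoreDescent.{u} @IsAffineHom :=
  coreDescent_of_affineSystemDescent affineSystemDescent_isAffineHom hΦ_qcqs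

theorem coreDescent_isImmersion : CoreDescent.{u} @IsImmersion :=
  coreDescent_of_affineSystemDescent affineSystemDescent_isImmersion hΦ_lft

theorem coreDescent_flat : CoreDescent.{u} @Flat :=
  coreDescent_of_affineSystemDescent affineSystemDescent_flat hΦ_lfp

theorem coreDescent_locallyQuasiFinite : CoreDescent.{u} @LocallyQuasiFinite :=
  coreDescent_of_affineSystemDescent affineSystemDescent_locallyQuasiFinite hΦ_lft

theorem coreDescent_mono : CoreDescent (monomorphisms Scheme.{u}) := by
  have := coreDescent_diagonal affineSystemDescent_isomorphisms.{u} hΦ_lfp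
  rwa [diagonal_isomorphisms] at this

theorem coreDescent_universallyInjective : CoreDescent.{u} @UniversallyInjective := by
  have := coreDescent_diagonal affineSystemDescent_surjective.{u} hΦ_lfp
  rwa [← universallyInjective_eq_diagonal] at this

theorem coreDescent_isSeparated : CoreDescent.{u} @IsSeparated := by
  have := coreDescent_diagonal affineSystemDescent_isClosedImmersion.{u} hΦ_lft
  rwa [← IsSeparated.isSeparated_eq_diagonal_isClosedImmersion] at this

theorem coreDescent_isOpenImmersion : CoreDescent.{u} @IsOpenImmersion := by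
  refine (coreDescent_flat.inf coreDescent_mono).of_imp ?_ ?_
  · intro X Y f hf
    haveI : IsOpenImmersion f := hf
    exact ⟨inferInstance, (inferInstance : Mono f)⟩
  · intro X Y f hlfp hf
    haveI : Flat f := hf.1
    haveI : Mono f := hf.2
    exact IsOpenImmersion.of_flat_of_mono f

theorem coreDescent_quasiFinite :
    CoreDescent.{u} (@LocallyOfFiniteType ⊓ (@QuasiCompact ⊓ @LocallyQuasiFinite)) := by
  refine CoreDescent.inf (coreDescent_of_forall fun f h1 _ _ => ?_)
    (CoreDescent.inf (coreDescent_of_forall fun f _ h2 _ => h2) coreDescent_locallyQuasiFinite)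
  haveI := h1
  exact (inferInstance : LocallyOfFiniteType f)

theorem isIndConsPair_quasiFinite :
    ConsPropPair.IsIndConsPair.{u}
      (ExistsHom (@LocallyOfFiniteType ⊓ (@QuasiCompact ⊓ @LocallyQuasiFinite))) :=
  isIndConsPair_existsHom coreDescent_quasiFinite

end Groth.Agent.H3.ConsP
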