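import Groth.Agent.Lib.Helper3.ConsP.ExHomInst
import Groth.Agent.Lib.Helper5.NApprox.PropA

/-!
# Properness descends to a stage, in `CoreDescent` form (via helper5's `exists_isProper_descend`)
-/

set_option autoImplicit false
set_option linter.style.haveILetI false
universe u
open CategoryTheory CategoryTheory.Limits AlgebraicGeometry MorphismProperty Opposite Topology

namespace Groth.Agent.H3.ConsP

theorem coreDescent_isProper : CoreDescent.{u} @IsProper := by
  refine ⟨?_⟩
  intro I _ _ D c hc _ i₀ _ _ X₀ Y₀ f₀ g₀ _ _ _ _ _ _ hQ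
  have h1 : LocallyOfFinitePresentation f₀ :=
    Groth.Agent.H5.EtSrc.locallyOfFinitePresentation_of_comp f₀ g₀ inferInstance inferInstance
  haveI : LocallyOfFiniteType f₀ := inferInstance
  haveI : CompactSpace Y₀ := QuasiCompact.compactSpace_of_compactSpace g₀
  haveI : QuasiSeparatedSpace Y₀ := quasiSeparatedSpace_of_quasiSeparated g₀
  haveI : CompactSpace X₀ := QuasiCompact.compactSpace_of_compactSpace (f₀ ≫ g₀)
  haveI : QuasiSeparatedSpace X₀ := quasiSeparatedSpace_of_quasiSeparated (f₀ ≫ g₀)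
  haveI : IsProper (pullback.snd f₀ (pullback.fst g₀ (c.π.app i₀))) := hQ
  obtain ⟨i, φ, Xi, Yi, fi, gi, pY, pX, hpY, hpX, hprop⟩ :=
    Groth.Agent.H5.NApprox.exists_isProper_descend D c hc i₀ f₀ g₀
      (pullback.snd f₀ (pullback.fst g₀ (c.π.app i₀))) (pullback.snd g₀ (c.π.app i₀))
      (pullback.fst g₀ (c.π.app i₀)) (pullback.fst f₀ (pullback.fst g₀ (c.π.app i₀)))
      (IsPullback.of_hasPullback g₀ (c.π.app i₀))
      (IsPullback.of_hasPullback f₀ (pullback.fst g₀ (c.π.app i₀)))
  refine ⟨Over.mk φ, ?_⟩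
  -- compare with the canonical pullbacks
  let e : pullback g₀ (D.map φ) ⟶ Yi := hpY.lift (pullback.fst _ _) (pullback.snd _ _)
    pullback.condition
  have he : e ≫ pY = pullback.fst g₀ (D.map φ) := hpY.lift_fst _ _ _
  have hsq : IsPullback (pullback.fst f₀ (pullback.fst g₀ (D.map φ)))
      (pullback.snd f₀ (pullback.fst g₀ (D.map φ))) f₀ (e ≫ pY) := by
    rw [he]
    exact IsPullback.of_hasPullback f₀ (pullback.fst g₀ (D.map φ))
  let a : pullback f₀ (pullback.fst g₀ (D.map φ)) ⟶ Xi :=
    hpX.lift (pullback.fst _ _) (pullback.snd _ _ ≫ e) (by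
      rw [Category.assoc, he]
      exact pullback.condition)
  have ha1 : a ≫ pX = pullback.fst _ _ := hpX.lift_fst _ _ _
  have ha2 : a ≫ fi = pullback.snd _ _ ≫ e := hpX.lift_snd _ _ _
  have hleft : IsPullback a (pullback.snd f₀ (pullback.fst g₀ (D.map φ))) fi e := by
    refine IsPullback.of_right ?_ ha2 hpX
    rw [ha1]
    exact hsq
  exact MorphismProperty.of_isPullback (P := @IsProper) hleft hprop

end Groth.Agent.H3.ConsP
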