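import Groth.Agent.Lib.Helper5.Lim.FGSub2

set_option autoImplicit false
universe u
open CategoryTheory CategoryTheory.Limits AlgebraicGeometry MorphismProperty Opposite

namespace Groth.Agent.H3.ConsP

section FGR

variable (R B : Type u) [CommRing R] [CommRing B] [Algebra R B]

/-- finitely generated `R`-subalgebras of `B` -/
abbrev FGR : Type u := {A : Subalgebra R B // A.FG}

instance : IsDirected (FGR R B) (· ≤ ·) :=
  ⟨fun S T => ⟨⟨S.1 ⊔ T.1, S.2.sup T.2⟩, le_sup_left (a := S.1), le_sup_right (b := T.1)⟩⟩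

instance : Nonempty (FGR R B) := ⟨⟨⊥, Subalgebra.fg_bot⟩⟩

/-- the system of f.g. subalgebras -/
noncomputable def fgrFunctor : FGR R B ⥤ CommRingCat.{u} where
  obj S := CommRingCat.of S.1
  map {S T} h := CommRingCat.ofHom (Subalgebra.inclusion (leOfHom h)).toRingHom
  map_id S := by ext; rfl
  map_comp h h' := by ext; rfl

/-- the cocone of inclusions -/
noncomputable def fgrCocone : Cocone (fgrFunctor R B) where
  pt := CommRingCat.of B
  ι :=
    { app := fun S => CommRingCat.ofHom (algebraMap (↥S.1) B)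
      naturality := fun S T h => by ext; rfl }

noncomputable def isColimitFgrCocone : IsColimit (fgrCocone R B) := by
  haveI : PreservesColimitsOfShape (FGR R B) (forget CommRingCat.{u}) :=
    PreservesFilteredColimitsOfSize.preserves_filtered_colimits (FGR R B)
  haveI : ReflectsColimit (fgrFunctor R B) (forget CommRingCat) :=
    reflectsColimit_of_reflectsIsomorphisms _ _
  apply isColimitOfReflects (forget CommRingCat)
  refine Types.FilteredColimit.isColimitOf' _ _ ?_ ?_
  · intro (x : B)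
    have hfg : (Algebra.adjoin R ({x} : Set B)).FG := by
      have := Subalgebra.fg_adjoin_finset (R := R) ({x} : Finset B)
      simpa using this
    exact ⟨⟨Algebra.adjoin R {x}, hfg⟩,
      ⟨x, Algebra.subset_adjoin (Set.mem_singleton x)⟩, rfl⟩
  · intro j x y hxy
    exact ⟨j, 𝟙 j, by
      have : x = y := Subtype.ext hxy
      rw [this]⟩

/-- the cofiltered system `Spec A`, `A ⊆ B` a f.g. `R`-subalgebra -/
noncomputable def fgrDiagram : (FGR R B)ᵒᵖ ⥤ Scheme.{u} := (fgrFunctor R B).op ⋙ Scheme.Spec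

/-- the cone with vertex `Spec B` -/
noncomputable def fgrCone : Cone (fgrDiagram R B) := Scheme.Spec.mapCone (fgrCocone R B).op

noncomputable def isLimitFgrCone : IsLimit (fgrCone R B) :=
  isLimitOfPreserves Scheme.Spec (isColimitFgrCocone R B).op

lemma fgrCone_pt : (fgrCone R B).pt = Spec (CommRingCat.of B) := rfl

lemma fgrCone_π_app (S : (FGR R B)ᵒᵖ) :
    (fgrCone R B).π.app S = Spec.map (CommRingCat.ofHom (algebraMap (↥S.unop.1) B)) := rfl

lemma fgrDiagram_obj (S : (FGR R B)ᵒᵖ) :
    (fgrDiagram R B).obj S = Spec (CommRingCat.of ↥S.unop.1) := rfl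

instance (S T : (FGR R B)ᵒᵖ) (f : S ⟶ T) : IsAffineHom ((fgrDiagram R B).map f) :=
  inferInstanceAs (IsAffineHom (Spec.map _))

instance (S : (FGR R B)ᵒᵖ) : IsAffine ((fgrDiagram R B).obj S) :=
  inferInstanceAs (IsAffine (Spec _))

instance (S : (FGR R B)ᵒᵖ) : CompactSpace ((fgrDiagram R B).obj S) :=
  inferInstanceAs (CompactSpace (Spec _))

instance (S : (FGR R B)ᵒᵖ) : QuasiSeparatedSpace ((fgrDiagram R B).obj S) :=
  inferInstanceAs (QuasiSeparatedSpace (Spec _))

/-- the structure morphism `Spec A ⟶ Spec R`. -/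
noncomputable def fgrToBase (S : (FGR R B)ᵒᵖ) :
    (fgrDiagram R B).obj S ⟶ Spec (CommRingCat.of R) :=
  Spec.map (CommRingCat.ofHom (algebraMap R ↥S.unop.1))

lemma fgrDiagram_map_toBase {S T : (FGR R B)ᵒᵖ} (f : S ⟶ T) :
    (fgrDiagram R B).map f ≫ fgrToBase R B T = fgrToBase R B S := by
  change Spec.map _ ≫ Spec.map _ = Spec.map _
  rw [← Spec.map_comp]
  congr 1

lemma fgrCone_π_toBase (S : (FGR R B)ᵒᵖ) :
    (fgrCone R B).π.app S ≫ fgrToBase R B S =
      Spec.map (CommRingCat.ofHom (algebraMap R B)) := by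
  change Spec.map _ ≫ Spec.map _ = Spec.map _
  rw [← Spec.map_comp]
  congr 1

instance (S : (FGR R B)ᵒᵖ) : LocallyOfFiniteType (fgrToBase R B S) := by
  have : Algebra.FiniteType R ↥S.unop.1 := (Subalgebra.fg_iff_finiteType _).mp S.unop.2
  change LocallyOfFiniteType (X := Spec (CommRingCat.of ↥S.unop.1))
    (Spec.map (CommRingCat.ofHom (algebraMap R ↥S.unop.1)))
  rw [HasRingHomProperty.Spec_iff (P := @LocallyOfFiniteType)]
  exact (RingHom.finiteType_algebraMap (A := R) (B := ↥S.unop.1)).mpr inferInstance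

end FGR

end Groth.Agent.H3.ConsP
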