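import Mathlib

/-!
# Base change of fibres (helper3)

For a cartesian square `X' = X ×_S S'` and a point `s'` of `S'` with image `s = π s'`, the fibre of
`X'` over `s'` is the base change of the fibre of `X` over `s` along `Spec κ(s') ⟶ Spec κ(s)`.
-/

set_option autoImplicit false
universe u
open CategoryTheory CategoryTheory.Limits AlgebraicGeometry

namespace Groth.Agent.H3.ConsP

variable {X X' S S' : Scheme.{u}} {u : X ⟶ S} {u' : X' ⟶ S'} {qX : X' ⟶ X} {π : S' ⟶ S}

/-- the field extension `Spec κ(s') ⟶ Spec κ(π s')`. -/
noncomputable abbrev resMap (π : S' ⟶ S) (s' : S') :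
    Spec (S'.residueField s') ⟶ Spec (S.residueField (π s')) :=
  Spec.map (π.residueFieldMap s')

lemma resMap_comp (π : S' ⟶ S) (s' : S') :
    resMap π s' ≫ S.fromSpecResidueField (π s') = S'.fromSpecResidueField s' ≫ π :=
  Scheme.Hom.SpecMap_residueFieldMap_fromSpecResidueField π s'

/-- the comparison map between fibres. -/
noncomputable def fibComp (sq : IsPullback qX u' u π) (s' : S') :
    u'.fiber s' ⟶ u.fiber (π s') :=
  pullback.lift (u'.fiberι s' ≫ qX) (u'.fiberToSpecResidueField s' ≫ resMap π s') (by
    rw [Category.assoc, sq.w, Category.assoc, resMap_comp, ← Category.assoc, ← Category.assoc,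
      u'.fiber_fac s'])

@[reassoc (attr := simp)]
lemma fibComp_fiberι (sq : IsPullback qX u' u π) (s' : S') :
    fibComp sq s' ≫ u.fiberι (π s') = u'.fiberι s' ≫ qX :=
  pullback.lift_fst _ _ _

@[reassoc (attr := simp)]
lemma fibComp_toSpec (sq : IsPullback qX u' u π) (s' : S') :
    fibComp sq s' ≫ u.fiberToSpecResidueField (π s') =
      u'.fiberToSpecResidueField s' ≫ resMap π s' :=
  pullback.lift_snd _ _ _

/-- the fibre of the base change is the base change of the fibre. -/
theorem isPullback_fibComp (sq : IsPullback qX u' u π) (s' : S') :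
    IsPullback (fibComp sq s') (u'.fiberToSpecResidueField s')
      (u.fiberToSpecResidueField (π s')) (resMap π s') := by
  have hbig : IsPullback (u'.fiberι s' ≫ qX) (u'.fiberToSpecResidueField s') u
      (S'.fromSpecResidueField s' ≫ π) :=
    (IsPullback.of_hasPullback u' (S'.fromSpecResidueField s')).paste_horiz sq
  have hright : IsPullback (u.fiberι (π s')) (u.fiberToSpecResidueField (π s')) u
      (S.fromSpecResidueField (π s')) := IsPullback.of_hasPullback u _
  refine IsPullback.of_right ?_ (fibComp_toSpec sq s') hright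
  rw [fibComp_fiberι, resMap_comp]
  exact hbig

end Groth.Agent.H3.ConsP
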