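import Groth.Agent.Lib.Helper3.ConsP.Fib
import Groth.Prelude.Def_MoreMor

set_option autoImplicit false
universe u
open CategoryTheory CategoryTheory.Limits AlgebraicGeometry

namespace Groth.Agent.H3.ConsP

variable {X X' Y Y' S S' : Scheme.{u}} {f : X ⟶ Y} {g : Y ⟶ S} {f' : X' ⟶ Y'} {g' : Y' ⟶ S'}
  {qX : X' ⟶ X} {qY : Y' ⟶ Y} {π : S' ⟶ S}

@[reassoc (attr := simp)]
lemma fiberMap_fiberι (f : X ⟶ Y) (g : Y ⟶ S) (s : S) :
    MoreMor.fiberMap f g s ≫ g.fiberι s = (f ≫ g).fiberι s ≫ f :=
  pullback.lift_fst _ _ _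

@[reassoc (attr := simp)]
lemma fiberMap_toSpec (f : X ⟶ Y) (g : Y ⟶ S) (s : S) :
    MoreMor.fiberMap f g s ≫ g.fiberToSpecResidueField s = (f ≫ g).fiberToSpecResidueField s :=
  pullback.lift_snd _ _ _

lemma fibComp_fiberMap (hY : IsPullback qY g' g π) (hX : IsPullback qX f' f qY) (s' : S') :
    fibComp (hX.paste_vert hY) s' ≫ MoreMor.fiberMap f g (π s') =
      MoreMor.fiberMap f' g' s' ≫ fibComp hY s' := by
  apply pullback.hom_ext
  · change _ ≫ g.fiberι (π s') = _ ≫ g.fiberι (π s')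
    rw [Category.assoc, fiberMap_fiberι, fibComp_fiberι_assoc, Category.assoc, fibComp_fiberι,
      fiberMap_fiberι_assoc, hX.w]
  · change _ ≫ g.fiberToSpecResidueField (π s') = _ ≫ g.fiberToSpecResidueField (π s')
    rw [Category.assoc, fiberMap_toSpec, fibComp_toSpec, Category.assoc, fibComp_toSpec,
      fiberMap_toSpec_assoc]

/-- the morphism of fibres of the base change is the base change of the morphism of fibres. -/
theorem isPullback_fibComp_fiberMap (hY : IsPullback qY g' g π) (hX : IsPullback qX f' f qY)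
    (s' : S') :
    IsPullback (fibComp (hX.paste_vert hY) s') (MoreMor.fiberMap f' g' s')
      (MoreMor.fiberMap f g (π s')) (fibComp hY s') := by
  refine IsPullback.of_bot ?_ (fibComp_fiberMap hY hX s') (isPullback_fibComp hY s')
  rw [fiberMap_toSpec, fiberMap_toSpec]
  exact isPullback_fibComp (hX.paste_vert hY) s'

end Groth.Agent.H3.ConsP
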