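import Groth.Agent.Lib.Helper3.ConsP.ExHomInst

/-!
# Geometric isomorphism implies isomorphism after a finite extension
-/

set_option autoImplicit false
set_option linter.style.haveILetI false
universe u
open CategoryTheory CategoryTheory.Limits AlgebraicGeometry MorphismProperty Opposite

namespace Groth.Agent.H3.ConsP

/-- transporting a morphism with a base-change-stable property between models over `T` to the
chosen pullbacks over `T' ⟶ T`. -/
theorem exists_hom_of_bc {Q : MorphismProperty Scheme.{u}} [Q.IsStableUnderBaseChange]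
    {X Y S T T' Xi Yi : Scheme.{u}} (u : X ⟶ S) (v : Y ⟶ S) (a : T ⟶ S)
    (fi : Xi ⟶ Yi) (gi : Yi ⟶ T) (qX : Xi ⟶ X) (qY : Yi ⟶ Y)
    (hX : IsPullback qX (fi ≫ gi) u a) (hY : IsPullback qY gi v a) (hfi : Q fi)
    (b : T' ⟶ T) (c : T' ⟶ S) (hc : b ≫ a = c) :
    ∃ h : pullback u c ⟶ pullback v c, h ≫ pullback.snd v c = pullback.snd u c ∧ Q h := by
  subst hc
  let lX : pullback u (b ≫ a) ⟶ Xi := hX.lift (pullback.fst u (b ≫ a)) (pullback.snd u (b ≫ a) ≫ b)
    (by rw [pullback.condition, Category.assoc])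
  have hlX1 : lX ≫ qX = pullback.fst u (b ≫ a) := hX.lift_fst _ _ _
  have hlX2 : lX ≫ fi ≫ gi = pullback.snd u (b ≫ a) ≫ b := hX.lift_snd _ _ _
  have sqX : IsPullback lX (pullback.snd u (b ≫ a)) (fi ≫ gi) b := by
    refine IsPullback.of_right ?_ hlX2 hX
    rw [hlX1]
    exact IsPullback.of_hasPullback u (b ≫ a)
  let lY : pullback v (b ≫ a) ⟶ Yi := hY.lift (pullback.fst v (b ≫ a)) (pullback.snd v (b ≫ a) ≫ b)
    (by rw [pullback.condition, Category.assoc])
  have hlY1 : lY ≫ qY = pullback.fst v (b ≫ a) := hY.lift_fst _ _ _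
  have hlY2 : lY ≫ gi = pullback.snd v (b ≫ a) ≫ b := hY.lift_snd _ _ _
  have sqY : IsPullback lY (pullback.snd v (b ≫ a)) gi b := by
    refine IsPullback.of_right ?_ hlY2 hY
    rw [hlY1]
    exact IsPullback.of_hasPullback v (b ≫ a)
  let h : pullback u (b ≫ a) ⟶ pullback v (b ≫ a) :=
    sqY.lift (lX ≫ fi) (pullback.snd u (b ≫ a)) (by rw [Category.assoc, hlX2])
  have hh1 : h ≫ lY = lX ≫ fi := sqY.lift_fst _ _ _
  have hh2 : h ≫ pullback.snd v (b ≫ a) = pullback.snd u (b ≫ a) := sqY.lift_snd _ _ _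
  have sq : IsPullback lX h fi lY := by
    refine IsPullback.of_bot ?_ hh1.symm sqY
    rw [hh2]
    exact sqX
  exact ⟨h, hh2, MorphismProperty.of_isPullback sq hfi⟩

/-- **S4839** -/
theorem exists_iso_finite_extension {k : Type u} [Field k] {X Y : Scheme.{u}}
    (p : X ⟶ Spec (CommRingCat.of k)) (q : Y ⟶ Spec (CommRingCat.of k))
    [LocallyOfFiniteType p] [QuasiCompact p] [LocallyOfFiniteType q] [QuasiCompact q]
    (K : Type u) [Field K] [Algebra k K]
    (e : pullback p (Spec.map (CommRingCat.ofHom (algebraMap k K))) ≅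
      pullback q (Spec.map (CommRingCat.ofHom (algebraMap k K))))
    (he : e.hom ≫ pullback.snd q (Spec.map (CommRingCat.ofHom (algebraMap k K))) =
      pullback.snd p (Spec.map (CommRingCat.ofHom (algebraMap k K)))) :
    ∃ (k' : Type u) (_ : Field k') (_ : Algebra k k') (_ : Module.Finite k k')
      (e' : pullback p (Spec.map (CommRingCat.ofHom (algebraMap k k'))) ≅
        pullback q (Spec.map (CommRingCat.ofHom (algebraMap k k')))),
      e'.hom ≫ pullback.snd q (Spec.map (CommRingCat.ofHom (algebraMap k k'))) =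
        pullback.snd p (Spec.map (CommRingCat.ofHom (algebraMap k k'))) := by
  haveI : IsNoetherian (Spec (CommRingCat.of k)) := inferInstance
  haveI : LocallyOfFinitePresentation p :=
    LocallyOfFinitePresentation.iff_locallyOfFiniteType.mpr inferInstance
  haveI : LocallyOfFinitePresentation q :=
    LocallyOfFinitePresentation.iff_locallyOfFiniteType.mpr inferInstance
  haveI : QuasiSeparated p := quasiSeparated_of_noeth p
  haveI : QuasiSeparated q := quasiSeparated_of_noeth q
  have hbase : (Iso.refl (Spec (CommRingCat.of K))).hom ≫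
      Spec.map (CommRingCat.ofHom (algebraMap k K)) ≫ 𝟙 (Spec (CommRingCat.of k)) =
      Spec.map (CommRingCat.ofHom (algebraMap k K)) := by simp
  obtain ⟨A, Xi, Yi, fi, gi, qX, qY, sqX, sqY, hfi⟩ :=
    exists_spread coreDescent_isomorphisms (R := k) (B := K)
      (𝟙 (Spec (CommRingCat.of k))) (Iso.refl (Spec (CommRingCat.of K))) p q
      (pullback.snd p (Spec.map (CommRingCat.ofHom (algebraMap k K))))
      (pullback.snd q (Spec.map (CommRingCat.ofHom (algebraMap k K))))
      (pullback.fst p _) (pullback.fst q _)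
      (by rw [hbase]; exact IsPullback.of_hasPullback _ _)
      (by rw [hbase]; exact IsPullback.of_hasPullback _ _)
      e.hom he (inferInstanceAs (IsIso e.hom))
  -- the subalgebra
  let A' : Subalgebra k K := A.unop.1
  have hfg : A'.FG := A.unop.2
  obtain ⟨m, hm⟩ := Ideal.exists_maximal (↥A')
  letI : Field (↥A' ⧸ m) := Ideal.Quotient.field m
  haveI : Algebra.FiniteType k ↥A' := (Subalgebra.fg_iff_finiteType _).mp hfg
  haveI : Algebra.FiniteType k (↥A' ⧸ m) :=
    Algebra.FiniteType.of_surjective (Ideal.Quotient.mkₐ k m) (Ideal.Quotient.mkₐ_surjective k m)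
  have hfin : Module.Finite k (↥A' ⧸ m) := finite_of_finite_type_of_isJacobsonRing k (↥A' ⧸ m)
  refine ⟨↥A' ⧸ m, inferInstance, inferInstance, hfin, ?_⟩
  let b : Spec (CommRingCat.of (↥A' ⧸ m)) ⟶ (fgrDiagram k K).obj A :=
    Spec.map (CommRingCat.ofHom (algebraMap ↥A' (↥A' ⧸ m)))
  have hb : b ≫ fgrToBase k K A ≫ 𝟙 _ =
      Spec.map (CommRingCat.ofHom (algebraMap k (↥A' ⧸ m))) := by
    rw [Category.comp_id]
    change Spec.map _ ≫ Spec.map _ = Spec.map _
    rw [← Spec.map_comp]
    congr 1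
  haveI : IsIso fi := hfi
  obtain ⟨h, hh, hQ⟩ := exists_hom_of_bc (Q := isomorphisms Scheme.{u}) p q
    (fgrToBase k K A ≫ 𝟙 _) fi gi qX qY sqX sqY hfi b _ hb
  haveI : IsIso h := hQ
  exact ⟨asIso h, hh⟩

end Groth.Agent.H3.ConsP
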