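import Groth.Agent.Lib.Helper3.ConsP.ApproxPair
import Groth.Agent.Lib.Helper2.ProConsLib

set_option autoImplicit false
set_option linter.style.haveILetI false
universe u
open CategoryTheory CategoryTheory.Limits AlgebraicGeometry Topology TopologicalSpace
open scoped Set.Notation

namespace Groth.Agent.H3.ConsP

/-- ind-constructibility is local for the Zariski topology. -/
theorem isIndConstructible_of_opens {X : Type*} [TopologicalSpace X] {E : Set X}
    (h : ∀ x : X, ∃ V : Opens X, x ∈ V ∧ ProCons.IsIndConstructible ((V : Set X) ↓∩ E)) :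
    ProCons.IsIndConstructible E := by
  intro x
  obtain ⟨V, hxV, hV⟩ := h x
  obtain ⟨U', hU', hxU', S', hS', hE⟩ := hV ⟨x, hxV⟩
  let e : U' ≃ₜ Subtype.val '' U' :=
    (Equiv.Set.image _ U' Subtype.val_injective).toHomeomorphOfIsInducing
      ((V.2.isOpenEmbedding_subtypeVal.restrict (by simp [Set.MapsTo]) hU').isInducing)
  refine ⟨Subtype.val '' U', V.2.isOpenMap_subtype_val _ hU', ⟨⟨x, hxV⟩, hxU', rfl⟩,
    (fun T => e.symm ⁻¹' T) '' S', ?_, ?_⟩
  · rintro _ ⟨T, hT, rfl⟩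
    exact (hS' T hT).preimage_of_isOpenEmbedding e.symm.isOpenEmbedding
  · ext ⟨_, y, hy, rfl⟩
    have h1 : (⟨y, hy⟩ : U') ∈ (Subtype.val ⁻¹' ((V : Set X) ↓∩ E) : Set ↥U') ↔
        (⟨y, hy⟩ : U') ∈ ⋃₀ S' := by rw [hE]
    have h2 : e.symm ⟨y.1, y, hy, rfl⟩ = ⟨y, hy⟩ := by
      apply e.injective
      rw [Homeomorph.apply_symm_apply]
      rfl
    constructor
    · intro hyE
      obtain ⟨T, hT, hyT⟩ := h1.mp hyE
      exact ⟨_, ⟨T, hT, rfl⟩, by change e.symm _ ∈ T; rw [h2]; exact hyT⟩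
    · rintro ⟨_, ⟨T, hT, rfl⟩, hyT⟩
      change e.symm _ ∈ T at hyT
      rw [h2] at hyT
      exact h1.mpr ⟨T, hT, hyT⟩

section Pair

variable {P : ∀ ⦃X Y T : Scheme.{u}⦄, (X ⟶ T) → (Y ⟶ T) → Prop}
  {X Y S : Scheme.{u}} (u : X ⟶ S) (v : Y ⟶ S)
  [LocallyOfFinitePresentation u] [QuasiCompact u] [QuasiSeparated u]
  [LocallyOfFinitePresentation v] [QuasiCompact v] [QuasiSeparated v]

theorem exists_noeth_model_pair_of_isAffine [IsAffine S] :
    ∃ (S₀ : Scheme.{u}) (π : S ⟶ S₀) (X₀ Y₀ : Scheme.{u})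
      (u₀ : X₀ ⟶ S₀) (v₀ : Y₀ ⟶ S₀) (a : X ⟶ X₀) (b : Y ⟶ Y₀),
      IsNoetherian S₀ ∧ LocallyOfFinitePresentation u₀ ∧ QuasiCompact u₀ ∧
        LocallyOfFinitePresentation v₀ ∧ QuasiCompact v₀ ∧
        IsPullback a u u₀ π ∧ IsPullback b v v₀ π := by
  let A : Type u := Γ(S, ⊤)
  let e : S ≅ Spec (CommRingCat.of A) := S.isoSpec
  obtain ⟨S₀, π, X₀, Y₀, u₀, v₀, a, b, h1, -, h3, h4, h5, h6, h7, h8⟩ :=
    exists_noeth_model_pair A (u ≫ e.hom) (v ≫ e.hom)
  refine ⟨S₀, e.hom ≫ π, X₀, Y₀, u₀, v₀, a, b, h1, h3, h4, h5, h6, ?_, ?_⟩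
  · have := (IsPullback.of_horiz_isIso (fst := 𝟙 X) (snd := u) (f := u ≫ e.hom) (g := e.hom)
      ⟨by simp⟩).paste_horiz h7
    simpa using this
  · have := (IsPullback.of_horiz_isIso (fst := 𝟙 Y) (snd := v) (f := v ≫ e.hom) (g := e.hom)
      ⟨by simp⟩).paste_horiz h8
    simpa using this

theorem isConstructible_locusPair_of_isAffine [IsAffine S] (hP : ConsPropPair.IsConsPair P) :
    IsConstructible (ConsPropPair.locusPair P u v) := by
  obtain ⟨S₀, π, X₀, Y₀, u₀, v₀, a, b, h1, h3, h4, h5, h6, h7, h8⟩ :=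
    exists_noeth_model_pair_of_isAffine u v
  rw [locusPair_preimage hP.1 h7 h8]
  exact π.isConstructible_preimage (isConstructible_locusPair u₀ v₀ hP)

theorem isIndConstructible_locusPair_of_isAffine [IsAffine S]
    (hP : ConsPropPair.IsIndConsPair P) :
    ProCons.IsIndConstructible (ConsPropPair.locusPair P u v) := by
  obtain ⟨S₀, π, X₀, Y₀, u₀, v₀, a, b, h1, h3, h4, h5, h6, h7, h8⟩ :=
    exists_noeth_model_pair_of_isAffine u v
  rw [locusPair_preimage hP.1 h7 h8]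
  exact Groth.Agent.H2.ProConsLib.isIndConstructible_preimage π
    (isIndConstructible_locusPair u₀ v₀ hP)

theorem isLocallyConstructible_locusPair_of_fp (hP : ConsPropPair.IsConsPair P) :
    IsLocallyConstructible (ConsPropPair.locusPair P u v) := by
  refine IsLocallyConstructible.of_isOpenCover (U := fun V : S.affineOpens => V.1)
    (iSup_affineOpens_eq_top S) fun V => ?_
  haveI : IsAffine ↑V.1 := V.2
  have h := isConstructible_locusPair_of_isAffine (pullback.snd u V.1.ι) (pullback.snd v V.1.ι) hP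
  rw [locusPair_preimage hP.1 (IsPullback.of_hasPullback u V.1.ι)
    (IsPullback.of_hasPullback v V.1.ι)] at h
  exact h.isLocallyConstructible

theorem isIndConstructible_locusPair_of_fp (hP : ConsPropPair.IsIndConsPair P) :
    ProCons.IsIndConstructible (ConsPropPair.locusPair P u v) := by
  apply isIndConstructible_of_opens
  intro x
  obtain ⟨V, hV, hxV, -⟩ := Groth.Agent.H2.ProConsLib.exists_affine_nhd x isOpen_univ
    (Set.mem_univ _)
  refine ⟨V, hxV, ?_⟩
  haveI : IsAffine ↑V := hV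
  have h := isIndConstructible_locusPair_of_isAffine (pullback.snd u V.ι) (pullback.snd v V.ι) hP
  rw [locusPair_preimage hP.1 (IsPullback.of_hasPullback u V.ι)
    (IsPullback.of_hasPullback v V.ι)] at h
  exact h

end Pair

end Groth.Agent.H3.ConsP
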