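import Groth.Agent.Lib.Helper3.ConsP.FibMor
import Groth.Prelude.Def_EGA4Misc
import Groth.Prelude.Def_W4ega4s0809p4Pair

set_option autoImplicit false
set_option linter.style.haveILetI false
universe u
open CategoryTheory CategoryTheory.Limits AlgebraicGeometry

namespace Groth.Agent.H3.ConsP

instance subsingleton_spec_residueField {S : Scheme.{u}} (s : S) :
    Subsingleton ↥(Spec (S.residueField s)) :=
  inferInstanceAs (Subsingleton (PrimeSpectrum (S.residueField s)))

instance lft_fiberToSpec {X S : Scheme.{u}} (u : X ⟶ S) [LocallyOfFiniteType u] (s : S) :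
    LocallyOfFiniteType (u.fiberToSpecResidueField s) :=
  inferInstanceAs (LocallyOfFiniteType (pullback.snd u (S.fromSpecResidueField s)))

instance qc_fiberToSpec {X S : Scheme.{u}} (u : X ⟶ S) [QuasiCompact u] (s : S) :
    QuasiCompact (u.fiberToSpecResidueField s) :=
  inferInstanceAs (QuasiCompact (pullback.snd u (S.fromSpecResidueField s)))

section Pair

variable {P : ∀ ⦃X Y T : Scheme.{u}⦄, (X ⟶ T) → (Y ⟶ T) → Prop}
  {X X' Y Y' S S' : Scheme.{u}} {u : X ⟶ S} {v : Y ⟶ S} {u' : X' ⟶ S'} {v' : Y' ⟶ S'}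
  {qX : X' ⟶ X} {qY : Y' ⟶ Y} {π : S' ⟶ S}

theorem locusPair_preimage (hP : ConsPropPair.IsFieldStablePair P)
    [LocallyOfFiniteType u] [QuasiCompact u] [LocallyOfFiniteType v] [QuasiCompact v]
    (hX : IsPullback qX u' u π) (hY : IsPullback qY v' v π) :
    ConsPropPair.locusPair P u' v' = π ⁻¹' ConsPropPair.locusPair P u v := by
  ext s'
  exact (hP (u.fiberToSpecResidueField (π s')) (v.fiberToSpecResidueField (π s'))
    (u'.fiberToSpecResidueField s') (v'.fiberToSpecResidueField s') (fibComp hX s')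
    (fibComp hY s') (resMap π s') (isPullback_fibComp hX s') (isPullback_fibComp hY s')).symm

end Pair

section Mor

variable {P : ∀ ⦃X Y T : Scheme.{u}⦄, (X ⟶ Y) → (Y ⟶ T) → Prop}
  {X X' Y Y' S S' : Scheme.{u}} {f : X ⟶ Y} {g : Y ⟶ S} {f' : X' ⟶ Y'} {g' : Y' ⟶ S'}
  {qX : X' ⟶ X} {qY : Y' ⟶ Y} {π : S' ⟶ S}

theorem locusMor_preimage (hP : ConsProp.IsFieldStableMor P)
    [LocallyOfFiniteType g] [QuasiCompact g] [LocallyOfFiniteType (f ≫ g)] [QuasiCompact (f ≫ g)]
    (hY : IsPullback qY g' g π) (hX : IsPullback qX f' f qY) :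
    ConsProp.locusMor P f' g' = π ⁻¹' ConsProp.locusMor P f g := by
  ext s'
  haveI : LocallyOfFiniteType (MoreMor.fiberMap f g (π s') ≫ g.fiberToSpecResidueField (π s')) := by
    rw [fiberMap_toSpec]; infer_instance
  haveI : QuasiCompact (MoreMor.fiberMap f g (π s') ≫ g.fiberToSpecResidueField (π s')) := by
    rw [fiberMap_toSpec]; infer_instance
  exact (hP (MoreMor.fiberMap f g (π s')) (g.fiberToSpecResidueField (π s'))
    (MoreMor.fiberMap f' g' s') (g'.fiberToSpecResidueField s') (fibComp (hX.paste_vert hY) s')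
    (fibComp hY s') (resMap π s') (isPullback_fibComp hY s')
    (isPullback_fibComp_fiberMap hY hX s')).symm

end Mor

end Groth.Agent.H3.ConsP
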