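import Groth.Agent.Lib.Helper3.ConsP.FGR
import Groth.Agent.Lib.Helper3.ConsP.ExHom
import Groth.Agent.Lib.Helper5.Lim.ModuleIsoClass
import Groth.Agent.Lib.Helper5.Lim.BaseChangeOver

/-!
# Geometrically isomorphic modules are isomorphic after a finite extension
-/

set_option autoImplicit false
set_option linter.style.haveILetI false
universe u
open CategoryTheory CategoryTheory.Limits AlgebraicGeometry MorphismProperty Opposite

namespace Groth.Agent.H3.ConsP

open Groth.Agent.H5.Lim Groth.Agent.LD.QC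

section

variable (R B : Type u) [CommRing R] [CommRing B] [Algebra R B]

/-- the structure maps of the `fgrDiagram` as a natural transformation to the constant functor. -/
noncomputable def fgrToBaseNat :
    fgrDiagram R B ⟶ (Functor.const (FGR R B)ᵒᵖ).obj (Spec (CommRingCat.of R)) where
  app S := fgrToBase R B S
  naturality S T f := by
    change (fgrDiagram R B).map f ≫ fgrToBase R B T = fgrToBase R B S ≫ 𝟙 _
    rw [fgrDiagram_map_toBase, Category.comp_id]

end

/-- **S4823** -/
theorem exists_iso_pullback_finite_extension {k : Type u} [Field k] {X : Scheme.{u}}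
    (p : X ⟶ Spec (CommRingCat.of k)) [LocallyOfFiniteType p] [QuasiCompact p]
    (F G : X.Modules) [F.IsQuasicoherent] [G.IsQuasicoherent]
    (hF : F.IsFinitePresentation) (hG : G.IsFinitePresentation)
    (Ω : Type u) [Field Ω] [Algebra k Ω]
    (e : (Scheme.Modules.pullback
        (pullback.fst p (Spec.map (CommRingCat.ofHom (algebraMap k Ω))))).obj F ≅
      (Scheme.Modules.pullback
        (pullback.fst p (Spec.map (CommRingCat.ofHom (algebraMap k Ω))))).obj G) :
    ∃ (k' : Type u) (_ : Field k') (_ : Algebra k k') (_ : Module.Finite k k'),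
      Nonempty ((Scheme.Modules.pullback
          (pullback.fst p (Spec.map (CommRingCat.ofHom (algebraMap k k'))))).obj F ≅
        (Scheme.Modules.pullback
          (pullback.fst p (Spec.map (CommRingCat.ofHom (algebraMap k k'))))).obj G) := by
  haveI : IsNoetherian (Spec (CommRingCat.of k)) := inferInstance
  haveI : QuasiSeparated p := quasiSeparated_of_noeth p
  let D := fgrDiagram k Ω
  let c := fgrCone k Ω
  let t := fgrToBaseNat k Ω
  let pΩ : c.pt ⟶ Spec (CommRingCat.of k) := Spec.map (CommRingCat.ofHom (algebraMap k Ω))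
  have hp : ∀ A, c.π.app A ≫ t.app A = pΩ := fun A => fgrCone_π_toBase k Ω A
  let D' := tbcDiagram D t p
  let c' := tbcCone D t p c pΩ hp
  have hc' : IsLimit c' := isLimitTbcCone D t p c pΩ hp (isLimitFgrCone k Ω)
  haveI : ∀ (i j : (FGR k Ω)ᵒᵖ) (f : i ⟶ j), IsAffineHom (D'.map f) := fun i j f =>
    isAffineHom_tbcMap D t p f inferInstance
  let A₀ : (FGR k Ω)ᵒᵖ := op ⟨⊥, Subalgebra.fg_bot⟩
  haveI : QuasiCompact (pullback.snd p (t.app A₀)) :=
    MorphismProperty.pullback_snd (P := @QuasiCompact) p (t.app A₀) inferInstance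
  haveI : QuasiSeparated (pullback.snd p (t.app A₀)) :=
    MorphismProperty.pullback_snd (P := @QuasiSeparated) p (t.app A₀) inferInstance
  haveI : CompactSpace (D.obj A₀) := inferInstanceAs (CompactSpace ((fgrDiagram k Ω).obj A₀))
  haveI : QuasiSeparatedSpace (D.obj A₀) :=
    inferInstanceAs (QuasiSeparatedSpace ((fgrDiagram k Ω).obj A₀))
  have hcs : CompactSpace ↥(pullback p (t.app A₀)) :=
    QuasiCompact.compactSpace_of_compactSpace (pullback.snd p (t.app A₀))
  have hqs : QuasiSeparatedSpace ↥(pullback p (t.app A₀)) :=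
    quasiSeparatedSpace_of_quasiSeparated (pullback.snd p (t.app A₀))
  haveI : CompactSpace (D'.obj A₀) := hcs
  haveI : QuasiSeparatedSpace (D'.obj A₀) := hqs
  let F₀ : (D'.obj A₀).Modules := (Scheme.Modules.pullback (pullback.fst p (t.app A₀))).obj F
  let G₀ : (D'.obj A₀).Modules := (Scheme.Modules.pullback (pullback.fst p (t.app A₀))).obj G
  have hF₀ : F₀.IsFinitePresentation := isFinitePresentation_pullback _ F hF
  have hG₀ : G₀.IsFinitePresentation := isFinitePresentation_pullback _ G hG
  have w₀ : c'.π.app A₀ ≫ pullback.fst p (t.app A₀) = pullback.fst p pΩ :=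
    tbcProj_fst D t p c pΩ hp A₀
  let iso₀ : (Scheme.Modules.pullback (c'.π.app A₀)).obj F₀ ≅
      (Scheme.Modules.pullback (c'.π.app A₀)).obj G₀ :=
    (pullbackCompIso (c'.π.app A₀) (pullback.fst p (t.app A₀)) (pullback.fst p pΩ) w₀).app F ≪≫
      e ≪≫
      ((pullbackCompIso (c'.π.app A₀) (pullback.fst p (t.app A₀)) (pullback.fst p pΩ) w₀).app G).symm
  obtain ⟨κ, ⟨isoA⟩⟩ := exists_stage_iso_pullback D' c' hc' A₀ F₀ G₀ hF₀ hG₀ iso₀
  let A : (FGR k Ω)ᵒᵖ := κ.left
  have wA : D'.map κ.hom ≫ pullback.fst p (t.app A₀) = pullback.fst p (t.app A) :=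
    tbcMap_fst D t p κ.hom
  let isoA' : (Scheme.Modules.pullback (pullback.fst p (t.app A))).obj F ≅
      (Scheme.Modules.pullback (pullback.fst p (t.app A))).obj G :=
    ((pullbackCompIso (D'.map κ.hom) (pullback.fst p (t.app A₀)) (pullback.fst p (t.app A))
        wA).app F).symm ≪≫ isoA ≪≫
      (pullbackCompIso (D'.map κ.hom) (pullback.fst p (t.app A₀)) (pullback.fst p (t.app A))
        wA).app G
  -- the subalgebra
  let A' : Subalgebra k Ω := A.unop.1
  have hfg : A'.FG := A.unop.2
  obtain ⟨m, hm⟩ := Ideal.exists_maximal (↥A')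
  letI : Field (↥A' ⧸ m) := Ideal.Quotient.field m
  haveI : Algebra.FiniteType k ↥A' := (Subalgebra.fg_iff_finiteType _).mp hfg
  haveI : Algebra.FiniteType k (↥A' ⧸ m) :=
    Algebra.FiniteType.of_surjective (Ideal.Quotient.mkₐ k m) (Ideal.Quotient.mkₐ_surjective k m)
  have hfin : Module.Finite k (↥A' ⧸ m) := finite_of_finite_type_of_isJacobsonRing k (↥A' ⧸ m)
  refine ⟨↥A' ⧸ m, inferInstance, inferInstance, hfin, ?_⟩
  let b : Spec (CommRingCat.of (↥A' ⧸ m)) ⟶ D.obj A :=
    Spec.map (CommRingCat.ofHom (algebraMap ↥A' (↥A' ⧸ m)))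
  have hb : b ≫ t.app A = Spec.map (CommRingCat.ofHom (algebraMap k (↥A' ⧸ m))) := by
    change Spec.map _ ≫ Spec.map _ = Spec.map _
    rw [← Spec.map_comp]
    congr 1
  let l : pullback p (Spec.map (CommRingCat.ofHom (algebraMap k (↥A' ⧸ m)))) ⟶
      pullback p (t.app A) :=
    pullback.lift (pullback.fst _ _) (pullback.snd _ _ ≫ b)
      (by rw [Category.assoc, hb, pullback.condition])
  have hl : l ≫ pullback.fst p (t.app A) =
      pullback.fst p (Spec.map (CommRingCat.ofHom (algebraMap k (↥A' ⧸ m)))) :=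
    pullback.lift_fst _ _ _
  exact ⟨((pullbackCompIso l (pullback.fst p (t.app A)) _ hl).app F).symm ≪≫
    (Scheme.Modules.pullback l).mapIso isoA' ≪≫
    (pullbackCompIso l (pullback.fst p (t.app A)) _ hl).app G⟩

end Groth.Agent.H3.ConsP
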