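import Groth.Agent.Lib.Helper3.ConsP.Event
import Groth.Agent.Lib.Helper3.ModDesc.ModModel

set_option autoImplicit false
set_option linter.style.haveILetI false
universe u
open CategoryTheory CategoryTheory.Limits AlgebraicGeometry Topology TopologicalSpace
open scoped Set.Notation

namespace Groth.Agent.H3.ConsP

open Groth.Agent.LD Groth.Agent.H5.Lim Groth.Agent.H3.ModDesc

section Coh

theorem isCoh_of_isFinitePresentation {X : Scheme.{u}} (F : X.Modules) (hF : F.IsFinitePresentation) :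
    Coh.IsCoh F := by
  have h1 : F.IsQuasicoherent := inferInstance
  have h2 : F.IsFiniteType := inferInstance
  exact ⟨h1, h2⟩

theorem isCoh_pullback {X Y : Scheme.{u}} (f : X ⟶ Y) (F : Y.Modules) (hF : F.IsFinitePresentation) :
    Coh.IsCoh ((Scheme.Modules.pullback f).obj F) :=
  isCoh_of_isFinitePresentation _ (QC.isFinitePresentation_pullback f F hF)

end Coh

section Mod

variable {P : ∀ ⦃Y T : Scheme.{u}⦄, (Y ⟶ T) → Y.Modules → Prop}
  {X X' S S' : Scheme.{u}} {u : X ⟶ S} {u' : X' ⟶ S'} {qX : X' ⟶ X} {π : S' ⟶ S}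

theorem locusMod_preimage (hP : ConsProp.IsFieldStableMod P)
    [LocallyOfFiniteType u] [QuasiCompact u]
    (hX : IsPullback qX u' u π) (F : X.Modules) (hF : F.IsFinitePresentation)
    (F' : X'.Modules) (e : F' ≅ (Scheme.Modules.pullback qX).obj F) :
    ConsProp.locusMod P u' F' = π ⁻¹' ConsProp.locusMod P u F := by
  ext s'
  refine (hP (u.fiberToSpecResidueField (π s')) (u'.fiberToSpecResidueField s') (fibComp hX s')
    (resMap π s') (isPullback_fibComp hX s') ((Scheme.Modules.pullback (u.fiberι (π s'))).obj F)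
    ((Scheme.Modules.pullback (u'.fiberι s')).obj F') (isCoh_pullback _ F hF) ?_).symm
  exact (Scheme.Modules.pullback (u'.fiberι s')).mapIso e ≪≫
    pullbackCompIso' (u'.fiberι s') qX _ (fibComp_fiberι hX s').symm F ≪≫
    (pullbackCompIso' (fibComp hX s') (u.fiberι (π s')) _ rfl F).symm

end Mod

section NoethMod

variable {P : ∀ ⦃Y T : Scheme.{u}⦄, (Y ⟶ T) → Y.Modules → Prop}
  {X S : Scheme.{u}} [IsNoetherian S] (u : X ⟶ S)
  [LocallyOfFiniteType u] [QuasiCompact u] (F : X.Modules) (hF : F.IsFinitePresentation)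

include hF

theorem isConstructible_locusMod (hP : ConsProp.IsConsMod P) :
    IsConstructible (ConsProp.locusMod P u F) := by
  apply isConstructible_of_dichotomy
  intro Z' i hi hint hnoe
  rw [← locusMod_preimage hP.1 (IsPullback.of_hasPullback u i) F hF
    ((Scheme.Modules.pullback (pullback.fst u i)).obj F) (Iso.refl _)]
  exact hP.2 (pullback.snd u i) _ (isCoh_pullback _ F hF)

theorem isIndConstructible_locusMod (hP : ConsProp.IsIndConsMod P) :
    ProCons.IsIndConstructible (ConsProp.locusMod P u F) := by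
  apply isIndConstructible_of_generic
  intro Z' i hi hint hnoe
  rw [← locusMod_preimage hP.1 (IsPullback.of_hasPullback u i) F hF
    ((Scheme.Modules.pullback (pullback.fst u i)).obj F) (Iso.refl _)]
  exact hP.2 (pullback.snd u i) _ (isCoh_pullback _ F hF)

end NoethMod

section ModelMod

variable {X : Scheme.{u}} (A : Type u) [CommRing A]
  (u : X ⟶ Spec (CommRingCat.of A))
  [LocallyOfFinitePresentation u] [QuasiCompact u] [QuasiSeparated u]

/-- Noetherian model of a scheme of finite presentation over `Spec A` together with a finitely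
presented module. -/
theorem exists_noeth_model_mod (F : X.Modules) (hF : F.IsFinitePresentation) :
    ∃ (S₀ : Scheme.{u}) (π : Spec (CommRingCat.of A) ⟶ S₀) (X₀ : Scheme.{u})
      (u₀ : X₀ ⟶ S₀) (a : X ⟶ X₀) (F₀ : X₀.Modules),
      IsNoetherian S₀ ∧ LocallyOfFinitePresentation u₀ ∧ QuasiCompact u₀ ∧
        IsPullback a u u₀ π ∧ F₀.IsFinitePresentation ∧
        Nonempty (F ≅ (Scheme.Modules.pullback a).obj F₀) := by
  let u' : X ⟶ (fgzCone A).pt := u
  haveI : LocallyOfFinitePresentation u' := ‹LocallyOfFinitePresentation u›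
  haveI : QuasiCompact u' := ‹QuasiCompact u›
  haveI : QuasiSeparated u' := ‹QuasiSeparated u›
  obtain ⟨j₁, ⟨M₁⟩⟩ := exists_model (fgzDiagram A) (fgzCone A) (isLimitFgzCone A) u'
  obtain ⟨k, φ, F₀, hF₀, ⟨e⟩⟩ :=
    exists_stage_model_module (fgzDiagram A) (fgzCone A) (isLimitFgzCone A) M₁ hF
  exact ⟨(fgzDiagram A).obj k, (fgzCone A).π.app k, (M₁.bc φ).Y, (M₁.bc φ).p, (M₁.bc φ).g, F₀,
    inferInstance, (M₁.bc φ).lfp, (M₁.bc φ).qc, (M₁.bc φ).pb, hF₀, ⟨e⟩⟩

end ModelMod

section LocalMod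

variable {P : ∀ ⦃Y T : Scheme.{u}⦄, (Y ⟶ T) → Y.Modules → Prop}
  {X S : Scheme.{u}} (u : X ⟶ S)
  [LocallyOfFinitePresentation u] [QuasiCompact u] [QuasiSeparated u]
  (F : X.Modules) (hF : F.IsFinitePresentation)

include hF

theorem exists_noeth_model_mod_of_isAffine [IsAffine S] :
    ∃ (S₀ : Scheme.{u}) (π : S ⟶ S₀) (X₀ : Scheme.{u})
      (u₀ : X₀ ⟶ S₀) (a : X ⟶ X₀) (F₀ : X₀.Modules),
      IsNoetherian S₀ ∧ LocallyOfFinitePresentation u₀ ∧ QuasiCompact u₀ ∧
        IsPullback a u u₀ π ∧ F₀.IsFinitePresentation ∧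
        Nonempty (F ≅ (Scheme.Modules.pullback a).obj F₀) := by
  let A : Type u := Γ(S, ⊤)
  let e : S ≅ Spec (CommRingCat.of A) := S.isoSpec
  obtain ⟨S₀, π, X₀, u₀, a, F₀, h1, h3, h4, h7, h8, h9⟩ :=
    exists_noeth_model_mod A (u ≫ e.hom) F hF
  refine ⟨S₀, e.hom ≫ π, X₀, u₀, a, F₀, h1, h3, h4, ?_, h8, h9⟩
  have := (IsPullback.of_horiz_isIso (fst := 𝟙 X) (snd := u) (f := u ≫ e.hom) (g := e.hom)
    ⟨by simp⟩).paste_horiz h7
  simpa using this

theorem isConstructible_locusMod_of_isAffine [IsAffine S] (hP : ConsProp.IsConsMod P) :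
    IsConstructible (ConsProp.locusMod P u F) := by
  obtain ⟨S₀, π, X₀, u₀, a, F₀, h1, h3, h4, h7, h8, ⟨h9⟩⟩ :=
    exists_noeth_model_mod_of_isAffine u F hF
  rw [locusMod_preimage hP.1 h7 F₀ h8 F h9]
  exact π.isConstructible_preimage (isConstructible_locusMod u₀ F₀ h8 hP)

theorem isIndConstructible_locusMod_of_isAffine [IsAffine S] (hP : ConsProp.IsIndConsMod P) :
    ProCons.IsIndConstructible (ConsProp.locusMod P u F) := by
  obtain ⟨S₀, π, X₀, u₀, a, F₀, h1, h3, h4, h7, h8, ⟨h9⟩⟩ :=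
    exists_noeth_model_mod_of_isAffine u F hF
  rw [locusMod_preimage hP.1 h7 F₀ h8 F h9]
  exact Groth.Agent.H2.ProConsLib.isIndConstructible_preimage π
    (isIndConstructible_locusMod u₀ F₀ h8 hP)

theorem isLocallyConstructible_locusMod_of_fp (hP : ConsProp.IsConsMod P) :
    IsLocallyConstructible (ConsProp.locusMod P u F) := by
  refine IsLocallyConstructible.of_isOpenCover (U := fun V : S.affineOpens => V.1)
    (iSup_affineOpens_eq_top S) fun V => ?_
  haveI : IsAffine ↑V.1 := V.2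
  have h := isConstructible_locusMod_of_isAffine (pullback.snd u V.1.ι)
    ((Scheme.Modules.pullback (pullback.fst u V.1.ι)).obj F)
    (QC.isFinitePresentation_pullback _ F hF) hP
  rw [locusMod_preimage hP.1 (IsPullback.of_hasPullback u V.1.ι) F hF _ (Iso.refl _)] at h
  exact h.isLocallyConstructible

theorem isIndConstructible_locusMod_of_fp (hP : ConsProp.IsIndConsMod P) :
    ProCons.IsIndConstructible (ConsProp.locusMod P u F) := by
  apply isIndConstructible_of_opens
  intro x
  obtain ⟨V, hV, hxV, -⟩ := Groth.Agent.H2.ProConsLib.exists_affine_nhd x isOpen_univ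
    (Set.mem_univ _)
  refine ⟨V, hxV, ?_⟩
  haveI : IsAffine ↑V := hV
  have h := isIndConstructible_locusMod_of_isAffine (pullback.snd u V.ι)
    ((Scheme.Modules.pullback (pullback.fst u V.ι)).obj F)
    (QC.isFinitePresentation_pullback _ F hF) hP
  rw [locusMod_preimage hP.1 (IsPullback.of_hasPullback u V.ι) F hF _ (Iso.refl _)] at h
  exact h

end LocalMod

section EventMod

variable {P : ∀ ⦃Y T : Scheme.{u}⦄, (Y ⟶ T) → Y.Modules → Prop}

theorem forall_mem_locusMod_iff_exists (hP : ConsProp.IsIndConsMod P)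
    {I : Type u} [SmallCategory I] [IsCofiltered I]
    (D : I ⥤ Scheme.{u}) (c : Limits.Cone D) (hc : Limits.IsLimit c)
    [∀ (i j : I) (a : i ⟶ j), IsAffineHom (D.map a)] (i₀ : I) [CompactSpace ↥(D.obj i₀)]
    {X₀ : Scheme.{u}} (u₀ : X₀ ⟶ D.obj i₀)
    [LocallyOfFinitePresentation u₀] [QuasiCompact u₀] [QuasiSeparated u₀]
    (F₀ : X₀.Modules) (hF₀ : F₀.IsFinitePresentation)
    {X : Scheme.{u}} (u : X ⟶ c.pt) (q : X ⟶ X₀) (hX : IsPullback q u u₀ (c.π.app i₀)) :
    (∀ s : ↥c.pt, s ∈ ConsProp.locusMod P u ((Scheme.Modules.pullback q).obj F₀)) ↔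
      ∃ (j : I) (φ : j ⟶ i₀) (Xj : Scheme.{u}) (uj : Xj ⟶ D.obj j) (p : Xj ⟶ X₀),
        IsPullback p uj u₀ (D.map φ) ∧
          ∀ t : ↥(D.obj j), t ∈ ConsProp.locusMod P uj ((Scheme.Modules.pullback p).obj F₀) := by
  have hE₀ := isIndConstructible_locusMod_of_fp u₀ F₀ hF₀ hP
  have key := preimage_subset_preimage_iff_exists D c hc i₀ Set.univ
    (ConsProp.locusMod P u₀ F₀) isProConstructible_univ hE₀
  rw [locusMod_preimage hP.1 hX F₀ hF₀ _ (Iso.refl _)]
  constructor
  · intro h
    obtain ⟨k, φ, hk⟩ := key.mp (fun s _ => h s)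
    refine ⟨k, φ, pullback u₀ (D.map φ), pullback.snd _ _, pullback.fst _ _,
      IsPullback.of_hasPullback _ _, ?_⟩
    rw [locusMod_preimage hP.1 (IsPullback.of_hasPullback u₀ (D.map φ)) F₀ hF₀ _ (Iso.refl _)]
    exact fun t => hk (Set.mem_univ _)
  · rintro ⟨j, φ, Xj, uj, p, h1, h3⟩ s
    rw [locusMod_preimage hP.1 h1 F₀ hF₀ _ (Iso.refl _)] at h3
    exact key.mpr ⟨j, φ, fun t _ => h3 t⟩ (Set.mem_univ s)

end EventMod

section GenericMod

variable {P : ∀ ⦃Y T : Scheme.{u}⦄, (Y ⟶ T) → Y.Modules → Prop}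
  {X S : Scheme.{u}} [IrreducibleSpace S] (u : X ⟶ S)
  [LocallyOfFinitePresentation u] [QuasiCompact u] [QuasiSeparated u]
  (F : X.Modules) (hF : F.IsFinitePresentation)

/-- in an irreducible scheme, an ind-constructible set containing the generic point is a
neighbourhood of it. -/
theorem genericPoint_mem_interior_of_isIndConstructible {E : Set S}
    (hE : ProCons.IsIndConstructible E) (h : genericPoint S ∈ E) :
    genericPoint S ∈ interior E := by
  rw [← compl_compl E, interior_compl]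
  intro hcl
  obtain ⟨z, hz, hzs⟩ := Groth.Agent.H2.ProConsLib.exists_specializes_of_mem_closure
    (Groth.Agent.H2.ProConsLib.isProConstructible_compl hE) hcl
  have h2 : genericPoint S ⤳ z := genericPoint_specializes z
  have h3 : z = genericPoint S := (hzs.antisymm h2).eq
  rw [h3] at hz
  exact hz h

include hF

theorem genericPoint_mem_interior_locusMod_of_mem (hP : ConsProp.IsIndConsMod P)
    (hη : genericPoint S ∈ ConsProp.locusMod P u F) :
    genericPoint S ∈ interior (ConsProp.locusMod P u F) :=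
  genericPoint_mem_interior_of_isIndConstructible (isIndConstructible_locusMod_of_fp u F hF hP) hη

theorem genericPoint_mem_interior_locusMod_or_compl (hP : ConsProp.IsConsMod P) :
    genericPoint S ∈ interior (ConsProp.locusMod P u F) ∨
      genericPoint S ∈ interior (ConsProp.locusMod P u F)ᶜ := by
  have hE := isLocallyConstructible_locusMod_of_fp u F hF hP
  have h1 := (Groth.Agent.H2.ProConsLib.isLocallyConstructible_iff.mp hE).1
  have h2 := Groth.Agent.H2.ProConsLib.isIndConstructible_compl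
    (Groth.Agent.H2.ProConsLib.isLocallyConstructible_iff.mp hE).2
  by_cases hη : genericPoint S ∈ ConsProp.locusMod P u F
  · exact Or.inl (genericPoint_mem_interior_of_isIndConstructible h1 hη)
  · exact Or.inr (genericPoint_mem_interior_of_isIndConstructible h2 hη)

end GenericMod

end Groth.Agent.H3.ConsP
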