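import Groth.Agent.Lib.Helper3.ConsP.ExHomInst
import Groth.Agent.Lib.Helper5.Lim.QuasiAffineDescend
import Groth.Agent.Lib.Lead.QC.QAffHom
import Groth.Agent.S2339

set_option autoImplicit false
set_option linter.style.haveILetI false
universe u
open CategoryTheory CategoryTheory.Limits AlgebraicGeometry MorphismProperty Opposite Topology

namespace Groth.Agent.H3.ConsP

open Groth.Agent.H5.Lim

/-- conversion of a descent statement in two-level form to the standard form. -/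
theorem coreDescent_of_twoLevel {Q : MorphismProperty Scheme.{u}} [Q.IsStableUnderBaseChange]
    (H : ∀ {I : Type u} [SmallCategory I] [IsCofiltered I] (D : I ⥤ Scheme.{u}) (c : Cone D)
      (_ : IsLimit c) [∀ (i j : I) (f : i ⟶ j), IsAffineHom (D.map f)] (i₀ : I)
      [CompactSpace (D.obj i₀)] [QuasiSeparatedSpace (D.obj i₀)]
      {X₀ Y₀ : Scheme.{u}} (f₀ : X₀ ⟶ Y₀) (g₀ : Y₀ ⟶ D.obj i₀)
      [QuasiCompact g₀] [QuasiSeparated g₀] [QuasiCompact (f₀ ≫ g₀)] [QuasiSeparated (f₀ ≫ g₀)]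
      {X Y : Scheme.{u}} (f : X ⟶ Y) (g : Y ⟶ c.pt) (qY : Y ⟶ Y₀) (qX : X ⟶ X₀)
      (_ : IsPullback qY g g₀ (c.π.app i₀)) (_ : IsPullback qX f f₀ qY), Q f →
      ∃ (i : I) (φ : i ⟶ i₀) (Xi Yi : Scheme.{u}) (fi : Xi ⟶ Yi) (gi : Yi ⟶ D.obj i)
        (pY : Yi ⟶ Y₀) (pX : Xi ⟶ X₀), IsPullback pY gi g₀ (D.map φ) ∧ IsPullback pX fi f₀ pY ∧
        Q fi) : CoreDescent Q := by
  refine ⟨?_⟩
  intro I _ _ D c hc _ i₀ _ _ X₀ Y₀ f₀ g₀ _ _ _ _ _ _ hQ
  obtain ⟨i, φ, Xi, Yi, fi, gi, pY, pX, h1, h2, h3⟩ := H D c hc i₀ f₀ g₀ _ _ _ _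
    (IsPullback.of_hasPullback g₀ (c.π.app i₀))
    (IsPullback.of_hasPullback f₀ (pullback.fst g₀ (c.π.app i₀))) hQ
  refine ⟨Over.mk φ, ?_⟩
  have h4 : Q (pullback.snd f₀ pY) := by
    have : fi = h2.isoPullback.hom ≫ pullback.snd f₀ pY := (h2.isoPullback_hom_snd).symm
    rw [this] at h3
    exact (Q.cancel_left_of_respectsIso _ _).mp h3
  have h5 : pY = h1.isoPullback.hom ≫ pullback.fst g₀ (D.map φ) :=
    (h1.isoPullback_hom_fst).symm
  rw [bc_congr (P := Q) f₀ h5] at h4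
  exact (bc_iso_iff f₀ _ _).mp h4

/-- quasi-affine morphisms, as a morphism property. -/
def quasiAffineHoms : MorphismProperty Scheme.{u} := fun _ _ f => Mor2.IsQuasiAffine f

theorem isQuasiAffine_of_isAffineHom {X Y : Scheme.{u}} (f : X ⟶ Y) [IsAffineHom f] :
    Mor2.IsQuasiAffine f := by
  refine ⟨inferInstance, fun V hV => ?_⟩
  haveI : IsAffine (f ⁻¹ᵁ V : Scheme.{u}) := hV.preimage f
  infer_instance

instance : quasiAffineHoms.{u}.RespectsIso := by
  apply MorphismProperty.RespectsIso.mk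
  · intro X Y Z e f hf
    exact LD.QC.isQuasiAffine_comp e.hom f (isQuasiAffine_of_isAffineHom e.hom) hf
  · intro X Y Z e f hf
    exact LD.QC.isQuasiAffine_comp f e.hom hf (isQuasiAffine_of_isAffineHom e.hom)

instance : quasiAffineHoms.{u}.IsStableUnderBaseChange := by
  apply MorphismProperty.IsStableUnderBaseChange.mk'
  intro X Y S f g _ hg
  have h1 : quasiAffineHoms (pullback.snd g f) := Groth.Agent.S2339.result g hg f
  have e : pullback.fst f g = (pullbackSymmetry f g).hom ≫ pullback.snd g f := by simp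
  rw [e]
  exact (quasiAffineHoms.cancel_left_of_respectsIso _ _).mpr h1

theorem coreDescent_quasiAffine : CoreDescent quasiAffineHoms.{u} := by
  apply coreDescent_of_twoLevel
  intro I _ _ D c hc _ i₀ _ _ X₀ Y₀ f₀ g₀ _ _ _ _ X Y f g qY qX hY hX hf
  exact exists_isQuasiAffine_stage D c hc i₀ f₀ g₀ f g qY qX hY hX hf

theorem isIndConsPair_quasiAffine :
    ConsPropPair.IsIndConsPair.{u} (ExistsHom quasiAffineHoms) :=
  isIndConsPair_existsHom coreDescent_quasiAffine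

end Groth.Agent.H3.ConsP
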