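import Groth.Agent.Lib.Helper3.ConsP.MorInd
import Groth.Agent.Lib.Helper3.ConsP.QAff
import Groth.Agent.Lib.Helper1.FpqcAffine
import Groth.Agent.Lib.Helper1.FpqcQAffine

set_option autoImplicit false
set_option linter.style.haveILetI false
universe u
open CategoryTheory CategoryTheory.Limits AlgebraicGeometry MorphismProperty Opposite Topology

namespace Groth.Agent.H3.ConsP

theorem isIndConsMor_isAffineHom :
    ConsProp.IsIndConsMor.{u} (fun _ _ _ f _ => IsAffineHom f) := by
  haveI := Groth.Agent.H1.FpqcAffine.descendsAlong_isAffineHom.{u}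
  exact isIndConsMor_of_coreDescent (Q := @IsAffineHom) coreDescent_isAffineHom
    isFieldStableMor_of_descendsAlong

theorem isIndConsMor_quasiAffine :
    ConsProp.IsIndConsMor.{u} (fun _ _ _ f _ => Mor2.IsQuasiAffine f) := by
  haveI : quasiAffineHoms.{u}.DescendsAlong
      (@Surjective ⊓ @Flat ⊓ @QuasiCompact : MorphismProperty Scheme.{u}) :=
    Groth.Agent.H1.FpqcQAffine.descendsAlong_isQuasiAffine.{u}
  exact isIndConsMor_of_coreDescent (Q := quasiAffineHoms) coreDescent_quasiAffine
    isFieldStableMor_of_descendsAlong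

theorem isIndConstructible_setOf_fibre_isAffineHom {X Y S : Scheme.{u}} (f : X ⟶ Y) (g : Y ⟶ S)
    [LocallyOfFinitePresentation g] [QuasiCompact g] [QuasiSeparated g]
    [LocallyOfFinitePresentation (f ≫ g)] [QuasiCompact (f ≫ g)] [QuasiSeparated (f ≫ g)] :
    ProCons.IsIndConstructible {s : S | IsAffineHom (MoreMor.fiberMap f g s)} :=
  isIndConstructible_locusMor_of_fp f g isIndConsMor_isAffineHom

theorem isIndConstructible_setOf_fibre_quasiAffine {X Y S : Scheme.{u}} (f : X ⟶ Y) (g : Y ⟶ S)
    [LocallyOfFinitePresentation g] [QuasiCompact g] [QuasiSeparated g]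
    [LocallyOfFinitePresentation (f ≫ g)] [QuasiCompact (f ≫ g)] [QuasiSeparated (f ≫ g)] :
    ProCons.IsIndConstructible {s : S | Mor2.IsQuasiAffine (MoreMor.fiberMap f g s)} :=
  isIndConstructible_locusMor_of_fp f g isIndConsMor_quasiAffine

end Groth.Agent.H3.ConsP
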