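import Groth.Agent.Lib.Helper3.ConsP.Noeth

set_option autoImplicit false
set_option linter.style.haveILetI false
universe u
open CategoryTheory CategoryTheory.Limits AlgebraicGeometry Topology TopologicalSpace

namespace Groth.Agent.H3.ConsP

section Pair

variable {P : ∀ ⦃X Y T : Scheme.{u}⦄, (X ⟶ T) → (Y ⟶ T) → Prop}
  {X Y S : Scheme.{u}} [IsNoetherian S] (u : X ⟶ S) (v : Y ⟶ S)
  [LocallyOfFiniteType u] [QuasiCompact u] [LocallyOfFiniteType v] [QuasiCompact v]

theorem isConstructible_locusPair (hP : ConsPropPair.IsConsPair P) :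
    IsConstructible (ConsPropPair.locusPair P u v) := by
  apply isConstructible_of_dichotomy
  intro Z' i hi hint hnoe
  rw [← locusPair_preimage hP.1 (IsPullback.of_hasPullback u i) (IsPullback.of_hasPullback v i)]
  exact hP.2 (pullback.snd u i) (pullback.snd v i)

theorem isIndConstructible_locusPair (hP : ConsPropPair.IsIndConsPair P) :
    ProCons.IsIndConstructible (ConsPropPair.locusPair P u v) := by
  apply isIndConstructible_of_generic
  intro Z' i hi hint hnoe
  rw [← locusPair_preimage hP.1 (IsPullback.of_hasPullback u i) (IsPullback.of_hasPullback v i)]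
  exact hP.2 (pullback.snd u i) (pullback.snd v i)

end Pair

section BcMor

variable {P : ∀ ⦃X Y T : Scheme.{u}⦄, (X ⟶ Y) → (Y ⟶ T) → Prop}
  {X Y S : Scheme.{u}} (f : X ⟶ Y) (g : Y ⟶ S)

/-- the base change of `f : X ⟶ Y` over `S` along `i : Z' ⟶ S`. -/
noncomputable abbrev bcMor {Z' : Scheme.{u}} (i : Z' ⟶ S) :
    pullback (f ≫ g) i ⟶ pullback g i :=
  pullback.map (f ≫ g) i g i f (𝟙 _) (𝟙 _) (by simp) (by simp)

lemma bcMor_fst {Z' : Scheme.{u}} (i : Z' ⟶ S) :
    bcMor f g i ≫ pullback.fst g i = pullback.fst (f ≫ g) i ≫ f :=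
  pullback.lift_fst _ _ _

lemma bcMor_snd {Z' : Scheme.{u}} (i : Z' ⟶ S) :
    bcMor f g i ≫ pullback.snd g i = pullback.snd (f ≫ g) i :=
  (pullback.lift_snd _ _ _).trans (Category.comp_id _)

lemma isPullback_bcMor {Z' : Scheme.{u}} (i : Z' ⟶ S) :
    IsPullback (pullback.fst (f ≫ g) i) (bcMor f g i) f (pullback.fst g i) := by
  refine IsPullback.of_bot ?_ (bcMor_fst f g i).symm (IsPullback.of_hasPullback g i)
  rw [bcMor_snd]
  exact IsPullback.of_hasPullback (f ≫ g) i

instance lft_bcMor_comp [LocallyOfFiniteType (f ≫ g)] {Z' : Scheme.{u}} (i : Z' ⟶ S) :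
    LocallyOfFiniteType (bcMor f g i ≫ pullback.snd g i) := by
  rw [bcMor_snd]; infer_instance

instance qc_bcMor_comp [QuasiCompact (f ≫ g)] {Z' : Scheme.{u}} (i : Z' ⟶ S) :
    QuasiCompact (bcMor f g i ≫ pullback.snd g i) := by
  rw [bcMor_snd]; infer_instance

theorem locusMor_bcMor [LocallyOfFiniteType g] [QuasiCompact g] [LocallyOfFiniteType (f ≫ g)]
    [QuasiCompact (f ≫ g)] (hP : ConsProp.IsFieldStableMor P) {Z' : Scheme.{u}} (i : Z' ⟶ S) :
    ConsProp.locusMor P (bcMor f g i) (pullback.snd g i) = i ⁻¹' ConsProp.locusMor P f g :=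
  locusMor_preimage hP (IsPullback.of_hasPullback g i) (isPullback_bcMor f g i)

end BcMor

section Mor

variable {P : ∀ ⦃X Y T : Scheme.{u}⦄, (X ⟶ Y) → (Y ⟶ T) → Prop}
  {X Y S : Scheme.{u}} [IsNoetherian S] (f : X ⟶ Y) (g : Y ⟶ S)
  [LocallyOfFiniteType g] [QuasiCompact g] [LocallyOfFiniteType (f ≫ g)] [QuasiCompact (f ≫ g)]

theorem isConstructible_locusMor (hP : ConsProp.IsConsMor P) :
    IsConstructible (ConsProp.locusMor P f g) := by
  apply isConstructible_of_dichotomy
  intro Z' i hi hint hnoe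
  rw [← locusMor_bcMor f g hP.1 i]
  exact hP.2 (bcMor f g i) (pullback.snd g i)

theorem isIndConstructible_locusMor (hP : ConsProp.IsIndConsMor P) :
    ProCons.IsIndConstructible (ConsProp.locusMor P f g) := by
  apply isIndConstructible_of_generic
  intro Z' i hi hint hnoe
  rw [← locusMor_bcMor f g hP.1 i]
  exact hP.2 (bcMor f g i) (pullback.snd g i)

end Mor

end Groth.Agent.H3.ConsP
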