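import Groth.Agent.Lib.Helper3.ConsP.NoethLoc

set_option autoImplicit false
set_option linter.style.haveILetI false
universe u
open CategoryTheory CategoryTheory.Limits AlgebraicGeometry Topology TopologicalSpace

namespace Groth.Agent.H3.ConsP

section Single

variable {P : ∀ ⦃Y T : Scheme.{u}⦄, (Y ⟶ T) → Prop}
  {X X' S S' : Scheme.{u}} {u : X ⟶ S} {u' : X' ⟶ S'} {qX : X' ⟶ X} {π : S' ⟶ S}

theorem locus_preimage (hP : ConsProp.IsFieldStable P)
    [LocallyOfFiniteType u] [QuasiCompact u] (hX : IsPullback qX u' u π) :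
    ConsProp.locus P u' = π ⁻¹' ConsProp.locus P u := by
  ext s'
  exact (hP (u.fiberToSpecResidueField (π s')) (u'.fiberToSpecResidueField s') (fibComp hX s')
    (resMap π s') (isPullback_fibComp hX s')).symm

end Single

section Noeth

variable {P : ∀ ⦃Y T : Scheme.{u}⦄, (Y ⟶ T) → Prop}
  {X S : Scheme.{u}} [IsNoetherian S] (u : X ⟶ S) [LocallyOfFiniteType u] [QuasiCompact u]

theorem isConstructible_locus (hP : ConsProp.IsCons P) :
    IsConstructible (ConsProp.locus P u) := by
  apply isConstructible_of_dichotomy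
  intro Z' i hi hint hnoe
  rw [← locus_preimage hP.1 (IsPullback.of_hasPullback u i)]
  exact hP.2 (pullback.snd u i)

theorem isIndConstructible_locus (hP : ConsProp.IsIndCons P) :
    ProCons.IsIndConstructible (ConsProp.locus P u) := by
  apply isIndConstructible_of_generic
  intro Z' i hi hint hnoe
  rw [← locus_preimage hP.1 (IsPullback.of_hasPullback u i)]
  exact hP.2 (pullback.snd u i)

end Noeth

end Groth.Agent.H3.ConsP
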