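import Groth.Agent.Lib.Helper3.ConsP.FGR
import Groth.Agent.Lib.Helper5.Lim.Model4
import Groth.Agent.Lib.Helper3.ConsP.CoreDesc

set_option autoImplicit false
set_option linter.style.haveILetI false
universe u
open CategoryTheory CategoryTheory.Limits AlgebraicGeometry MorphismProperty Opposite

namespace Groth.Agent.H3.ConsP

open Groth.Agent.H5.Lim

/-- the model at stage `i` of a base change of `u : X ⟶ S` to the limit, given `p : D.obj i ⟶ S`. -/
noncomputable def modelOfPullback {I : Type u} [SmallCategory I] {D : I ⥤ Scheme.{u}} {c : Cone D}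
    {i : I} {X X' S : Scheme.{u}} (u : X ⟶ S) [LocallyOfFinitePresentation u] [QuasiCompact u]
    [QuasiSeparated u] (p : D.obj i ⟶ S) (gX' : X' ⟶ c.pt) (a : X' ⟶ X)
    (big : IsPullback a gX' u (c.π.app i ≫ p)) : Model D c gX' i where
  Y := pullback u p
  p := pullback.snd u p
  g := pullback.lift a (gX' ≫ c.π.app i) (by rw [big.w, Category.assoc])
  lfp := inferInstance
  qc := inferInstance
  qs := inferInstance
  pb := by
    refine IsPullback.of_right ?_ (pullback.lift_snd _ _ _) (IsPullback.of_hasPullback u p)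
    rw [pullback.lift_fst]
    exact big

section Spread

variable {Q : MorphismProperty Scheme.{u}} [Q.IsStableUnderBaseChange]

theorem exists_spread (H : CoreDescent Q)
    {R B : Type u} [CommRing R] [CommRing B] [Algebra R B]
    {S T' : Scheme.{u}} (j : Spec (CommRingCat.of R) ⟶ S) (e' : T' ≅ Spec (CommRingCat.of B))
    {X Y X' Y' : Scheme.{u}} (u : X ⟶ S) (v : Y ⟶ S)
    [LocallyOfFinitePresentation u] [QuasiCompact u] [QuasiSeparated u]
    [LocallyOfFinitePresentation v] [QuasiCompact v] [QuasiSeparated v]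
    (gX' : X' ⟶ T') (gY' : Y' ⟶ T') (aX : X' ⟶ X) (aY : Y' ⟶ Y)
    (bigX : IsPullback aX gX' u
      (e'.hom ≫ Spec.map (CommRingCat.ofHom (algebraMap R B)) ≫ j))
    (bigY : IsPullback aY gY' v
      (e'.hom ≫ Spec.map (CommRingCat.ofHom (algebraMap R B)) ≫ j))
    (g : X' ⟶ Y') (hg : g ≫ gY' = gX') (hQ : Q g) :
    ∃ (A : (FGR R B)ᵒᵖ) (Xi Yi : Scheme.{u}) (fi : Xi ⟶ Yi)
      (gi : Yi ⟶ (fgrDiagram R B).obj A) (qX : Xi ⟶ X) (qY : Yi ⟶ Y),
      IsPullback qX (fi ≫ gi) u (fgrToBase R B A ≫ j) ∧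
        IsPullback qY gi v (fgrToBase R B A ≫ j) ∧ Q fi := by
  let D := fgrDiagram R B
  let c₀ := fgrCone R B
  let c' : Cone D := c₀.extend e'.hom
  have hc' : IsLimit c' := IsLimit.ofIsoLimit (isLimitFgrCone R B) (c₀.extendIso e'.symm)
  let pA : ∀ A : (FGR R B)ᵒᵖ, D.obj A ⟶ S := fun A => fgrToBase R B A ≫ j
  have hpA : ∀ A : (FGR R B)ᵒᵖ, c'.π.app A ≫ pA A =
      e'.hom ≫ Spec.map (CommRingCat.ofHom (algebraMap R B)) ≫ j := by
    intro A
    change (e'.hom ≫ c₀.π.app A) ≫ fgrToBase R B A ≫ j = _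
    exact (Category.assoc _ _ _).trans (congrArg (e'.hom ≫ ·)
      ((Category.assoc _ _ _).symm.trans (congrArg (· ≫ j) (fgrCone_π_toBase R B A))))
  let A₀ : (FGR R B)ᵒᵖ := op ⟨⊥, Subalgebra.fg_bot⟩
  let gX'' : X' ⟶ c'.pt := gX'
  let gY'' : Y' ⟶ c'.pt := gY'
  let MX : Model D c' gX'' A₀ := modelOfPullback u (pA A₀) gX'' aX (by rw [hpA]; exact bigX)
  let MY : Model D c' gY'' A₀ := modelOfPullback v (pA A₀) gY'' aY (by rw [hpA]; exact bigY)
  obtain ⟨A₁, φ, ⟨F⟩⟩ := Model.exists_hom hc' MX MY g hg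
  haveI : LocallyOfFinitePresentation (F.α ≫ (MY.bc φ).p) := by rw [F.w_p]; infer_instance
  haveI : QuasiCompact (F.α ≫ (MY.bc φ).p) := by rw [F.w_p]; infer_instance
  haveI : QuasiSeparated (F.α ≫ (MY.bc φ).p) := by rw [F.w_p]; infer_instance
  haveI : CompactSpace (D.obj A₁) := inferInstanceAs (CompactSpace ((fgrDiagram R B).obj A₁))
  haveI : QuasiSeparatedSpace (D.obj A₁) :=
    inferInstanceAs (QuasiSeparatedSpace ((fgrDiagram R B).obj A₁))
  obtain ⟨k, hk⟩ := H.out D c' hc' A₁ F.α (MY.bc φ).p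
    (descend_in D c' F.α (MY.bc φ).p (MY.bc φ).pb (F.isPullback hg) hQ)
  obtain ⟨A₂, φ', Xi, Yi, fi, gi, pY, pX, h1, h2, h3⟩ := descend_out D F.α (MY.bc φ).p k hk
  have hp : D.map φ' ≫ D.map φ ≫ pA A₀ = pA A₂ := by
    change D.map φ' ≫ D.map φ ≫ fgrToBase R B A₀ ≫ j = fgrToBase R B A₂ ≫ j
    rw [← Category.assoc (D.map φ), fgrDiagram_map_toBase, ← Category.assoc,
      fgrDiagram_map_toBase]
  refine ⟨A₂, Xi, Yi, fi, gi, pX ≫ MX.bcFst φ ≫ pullback.fst u (pA A₀),
    pY ≫ MY.bcFst φ ≫ pullback.fst v (pA A₀), ?_, ?_, h3⟩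
  · have s1 : IsPullback pX (fi ≫ gi) (MX.bc φ).p (D.map φ') := by
      have := h2.paste_vert h1
      rwa [F.w_p] at this
    have s2 := (s1.paste_horiz (MX.isPullback_bcFst φ)).paste_horiz
      (IsPullback.of_hasPullback u (pA A₀))
    rw [Category.assoc, Category.assoc, hp] at s2
    exact s2
  · have s2 := (h1.paste_horiz (MY.isPullback_bcFst φ)).paste_horiz
      (IsPullback.of_hasPullback v (pA A₀))
    rw [Category.assoc, Category.assoc, hp] at s2
    exact s2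

end Spread

end Groth.Agent.H3.ConsP
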